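import Groth.Agent.H12Pic.Cube.Step
import Groth.Agent.H28Pinch.DirectImageTrivial

/-!
# Triviality over Artinian points
-/

set_option autoImplicit false
set_option linter.style.haveILetI false
set_option linter.unusedSectionVars false

noncomputable section

universe u

open CategoryTheory CategoryTheory.Limits AlgebraicGeometry TopologicalSpace Opposite

namespace Groth.Agent.H12Pic.Cube

open Groth.Agent.LeadFF Groth.Agent.H11Tilde

/-- The pullback of a module is trivial. -/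
def Triv {P T : Scheme.{u}} (f : P ⟶ T) (L : T.Modules) : Prop :=
  Nonempty ((Scheme.Modules.pullback f).obj L ≅ Coh.structureModule P)

theorem Triv.comp {P P' T : Scheme.{u}} {f : P ⟶ T} {L : T.Modules} (h : Triv f L) (g : P' ⟶ P) :
    Triv (g ≫ f) L :=
  ⟨((Scheme.Modules.pullbackComp g f).app L).symm ≪≫ (Scheme.Modules.pullback g).mapIso h.some ≪≫
    PicLoc.pullbackStructureIso g⟩

theorem Triv.comp' {P P' T : Scheme.{u}} {f : P ⟶ T} {L : T.Modules} (h : Triv f L) (g : P' ⟶ P) {f' : P' ⟶ T}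
    (e : g ≫ f = f') : Triv f' L :=
  e ▸ h.comp g

theorem exists_gen_of_iso {T : Scheme.{u}} {M : T.Modules} (φ : M ≅ Coh.structureModule T) :
    ∃ g : Γ(M, ⊤), IsGen M g :=
  ⟨_, IsGen.map_iso φ.symm (H11Ample.isGen_one ⊤)⟩

theorem Triv.exists_gen {P Q T : Scheme.{u}} {q : Q ⟶ T} {b : P ⟶ Q} {f : P ⟶ T} {L : T.Modules} (h : Triv f L)
    (e : b ≫ q = f) :
    ∃ g : Γ((Scheme.Modules.pullback b).obj ((Scheme.Modules.pullback q).obj L), ⊤), IsGen _ g :=
  exists_gen_of_iso ((Scheme.Modules.pullbackComp b q).app L ≪≫ (Scheme.Modules.pullbackCongr e).app L ≪≫ h.some)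

theorem appLE_SpecMap_top {R S : CommRingCat.{u}} (f : R ⟶ S) (a : R) :
    (Spec.map f).appLE ⊤ (Spec.map f ⁻¹ᵁ ⊤) le_rfl ((Scheme.ΓSpecIso R).inv a) = (Scheme.ΓSpecIso S).inv (f a) := by
  have h := Scheme.ΓSpecIso_inv_naturality f
  rw [← Scheme.Hom.app_eq_appLE]
  exact (ConcreteCategory.congr_hom h a).symm

/-- The triple of a small extension of local rings. -/
def specTriple {C : CommRingCat.{u}} {C' C₀ : CommRingCat.{u}} (q : C ⟶ C') (π : C ⟶ C₀) (ε : C) :
    Triple (Spec C) where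
  B' := Spec C'
  B0 := Spec C₀
  i' := Spec.map q
  i0 := Spec.map π
  ε := (Scheme.ΓSpecIso C).inv ε

theorem good_specTriple {C C' C₀ : CommRingCat.{u}} (q : C ⟶ C') (π : C ⟶ C₀) (ε : C)
    (hq : Function.Surjective q) (hπ : Function.Surjective π) (hker : ∀ a, q a = 0 ↔ ∃ r, ε * r = a)
    (hann : ∀ a, ε * a = 0 ↔ π a = 0) (hπε : π ε = 0) : Good (specTriple q π ε) ⊤ := by
  have bC := ConcreteCategory.bijective_of_isIso (Scheme.ΓSpecIso C).inv
  have bC' := ConcreteCategory.bijective_of_isIso (Scheme.ΓSpecIso C').inv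
  have b0 := ConcreteCategory.bijective_of_isIso (Scheme.ΓSpecIso C₀).inv
  have he : (specTriple q π ε).e ⊤ = (Scheme.ΓSpecIso C).inv ε := by
    show (Spec C).presheaf.map _ _ = _
    rw [show (homOfLE (le_top : (⊤ : (Spec C).Opens) ≤ ⊤)).op = 𝟙 _ from rfl, CategoryTheory.Functor.map_id]
    rfl
  refine ⟨isAffineOpen_top _, isAffineOpen_top (Spec C'), isAffineOpen_top (Spec C₀), fun y => ?_, fun y => ?_,
    fun a => ?_, fun a => ?_, ?_⟩
  · obtain ⟨c, rfl⟩ := bC'.2 y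
    obtain ⟨a, rfl⟩ := hq c
    exact ⟨_, appLE_SpecMap_top q a⟩
  · obtain ⟨c, rfl⟩ := b0.2 y
    obtain ⟨a, rfl⟩ := hπ c
    exact ⟨_, appLE_SpecMap_top π a⟩
  · obtain ⟨c, rfl⟩ := bC.2 a
    refine ((Eq.congr_left (appLE_SpecMap_top q c)).trans (map_eq_zero_iff _ bC'.1)).trans ((hker c).trans ?_)
    rw [he]
    constructor
    · rintro ⟨r, hr⟩
      exact ⟨(Scheme.ΓSpecIso C).inv r, by rw [← map_mul, hr]⟩
    · rintro ⟨r, hr⟩
      obtain ⟨d, rfl⟩ := bC.2 r
      rw [← map_mul] at hr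
      exact ⟨d, bC.1 hr⟩
  · obtain ⟨c, rfl⟩ := bC.2 a
    rw [he, ← map_mul, map_eq_zero_iff _ bC.1]
    exact (hann c).trans ((Eq.congr_left (appLE_SpecMap_top π c)).trans (map_eq_zero_iff _ b0.1)).symm
  · rw [he, ← map_mul, (hann ε).2 hπε, map_zero]

theorem bT_comp {A : Type u} [CommRing A] {X B B' B'' : Scheme.{u}} (πX : X ⟶ Spec (CommRingCat.of A))
    (πB : B ⟶ Spec (CommRingCat.of A)) {πB' : B' ⟶ Spec (CommRingCat.of A)}
    {πB'' : B'' ⟶ Spec (CommRingCat.of A)} (b : B' ⟶ B) (hb : b ≫ πB = πB') (c : B'' ⟶ B')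
    (hc : c ≫ πB' = πB'') :
    bT πX πB' c hc ≫ bT πX πB b hb = bT πX πB (c ≫ b) (by rw [Category.assoc, hb, hc]) := by
  apply pullback.hom_ext
  · rw [Category.assoc, bT_fst, bT_fst, bT_fst]
  · rw [Category.assoc, bT_snd, bT_snd]
    refine (Category.assoc _ _ _).symm.trans ?_
    rw [bT_snd, Category.assoc]

theorem bT_congr {A : Type u} [CommRing A] {X B B' : Scheme.{u}} (πX : X ⟶ Spec (CommRingCat.of A))
    (πB : B ⟶ Spec (CommRingCat.of A)) {πB' : B' ⟶ Spec (CommRingCat.of A)}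
    {b b' : B' ⟶ B} (hb : b ≫ πB = πB') (e : b = b') :
    bT πX πB b hb = bT πX πB b' (e ▸ hb) := by
  subst e
  rfl

theorem lift_bT {A : Type u} [CommRing A] {Y B B' : Scheme.{u}} (πY : Y ⟶ Spec (CommRingCat.of A))
    (πB : B ⟶ Spec (CommRingCat.of A)) (b : B' ⟶ B) (y₀ : Spec (CommRingCat.of A) ⟶ Y) (h₁ : ((b ≫ πB) ≫ y₀) ≫ πY = 𝟙 B' ≫ b ≫ πB)
    (h₂ : (πB ≫ y₀) ≫ πY = 𝟙 B ≫ πB) :
    pullback.lift ((b ≫ πB) ≫ y₀) (𝟙 B') h₁ ≫ bT πY πB b rfl = b ≫ pullback.lift (πB ≫ y₀) (𝟙 B) h₂ := by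
  apply pullback.hom_ext
  · refine (Category.assoc _ _ _).trans ((congrArg (_ ≫ ·) (bT_fst πY πB b rfl)).trans ?_)
    rw [pullback.lift_fst, Category.assoc, Category.assoc, pullback.lift_fst]
  · refine (Category.assoc _ _ _).trans ((congrArg (_ ≫ ·) (bT_snd πY πB b rfl)).trans ?_)
    rw [← Category.assoc, pullback.lift_snd, Category.id_comp, Category.assoc, pullback.lift_snd, Category.comp_id]

variable {k : Type u} [Field k] {X Y Z : Scheme.{u}} (πX : X ⟶ Spec (CommRingCat.of k))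
  (πY : Y ⟶ Spec (CommRingCat.of k)) (πZ : Z ⟶ Spec (CommRingCat.of k))

/-- The structure map of `Y × Z`. -/
abbrev πYZ : pullback πY πZ ⟶ Spec (CommRingCat.of k) := pullback.fst πY πZ ≫ πY

variable (L : (pullback πX (πYZ πY πZ)).Modules)

/-- Triviality over a point of the third factor. -/
def TrivAt {C : Scheme.{u}} (zC : C ⟶ Z) : Prop :=
  ∀ (πC : C ⟶ Spec (CommRingCat.of k)) (hC : zC ≫ πZ = πC) (πB : pullback πY πC ⟶ Spec (CommRingCat.of k))
    (hb : bT πY πZ zC hC ≫ πYZ πY πZ = πB), Triv (bT πX (πYZ πY πZ) (bT πY πZ zC hC) hb) L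

/-- The standing hypotheses of the cube argument. -/
structure CubeData where
  hL : PicF.IsInvertible L
  ι : Type u
  finite : Fintype ι
  U : ι → X.Opens
  cover : GoodCover πX U
  hΓ : ∀ {T : Scheme.{u}} (t : T ⟶ Spec (CommRingCat.of k)) (W : T.Opens),
    Function.Bijective ((pullback.snd πX t).app W)
  x₀ : Spec (CommRingCat.of k) ⟶ X
  hx₀ : x₀ ≫ πX = 𝟙 _
  y₀ : Spec (CommRingCat.of k) ⟶ Y
  hy₀ : y₀ ≫ πY = 𝟙 _
  hY : Function.Injective y₀.appTop
  z₀ : Spec (CommRingCat.of k) ⟶ Z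
  hz₀ : z₀ ≫ πZ = 𝟙 _
  triv_x : ∀ (l : pullback πY πZ ⟶ pullback πX (πYZ πY πZ)),
    l ≫ pullback.fst _ _ = πYZ πY πZ ≫ x₀ → l ≫ pullback.snd _ _ = 𝟙 _ → Triv l L
  triv_y : ∀ (b : Z ⟶ pullback πY πZ) (hb : b ≫ πYZ πY πZ = πZ),
    b ≫ pullback.fst _ _ = πZ ≫ y₀ → b ≫ pullback.snd _ _ = 𝟙 _ → Triv (bT πX (πYZ πY πZ) b hb) L
  triv_z : ∀ (b : Y ⟶ pullback πY πZ) (hb : b ≫ πYZ πY πZ = πY),
    b ≫ pullback.fst _ _ = 𝟙 _ → b ≫ pullback.snd _ _ = πY ≫ z₀ → Triv (bT πX (πYZ πY πZ) b hb) L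

variable {πX πY πZ L} (D : CubeData πX πY πZ L)

include D in
theorem trivAt_of_isIso {C₀ : Scheme.{u}} (zC : C₀ ⟶ Z) (i0 : Spec (CommRingCat.of k) ⟶ C₀) [IsIso i0]
    (h : i0 ≫ zC = D.z₀) : TrivAt πX πY πZ L zC := by
  intro πC hC πB hb
  have hπC : i0 ≫ πC = 𝟙 _ := by rw [← hC, ← Category.assoc, h, D.hz₀]
  let b : Y ⟶ pullback πY πZ := pullback.lift (𝟙 Y) (πY ≫ D.z₀) (by rw [Category.assoc, D.hz₀]; simp)
  have hb' : b ≫ πYZ πY πZ = πY :=
    (Category.assoc _ _ _).symm.trans ((congrArg (· ≫ πY) (pullback.lift_fst _ _ _)).trans (Category.id_comp _))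
  have t := D.triv_z b hb' (pullback.lift_fst _ _ _) (pullback.lift_snd _ _ _)
  have e : bT πY πZ zC hC = pullback.fst πY πC ≫ b := by
    apply pullback.hom_ext
    · erw [bT_fst, Category.assoc, pullback.lift_fst, Category.comp_id]
    · rw [bT_snd, Category.assoc, pullback.lift_snd, ← Category.assoc (pullback.fst πY πC), pullback.condition,
        Category.assoc]
      congr 1
      rw [← h, ← Category.assoc]
      have : πC ≫ i0 = 𝟙 _ := by
        rw [show πC = inv i0 from (IsIso.inv_eq_of_hom_inv_id hπC).symm, IsIso.inv_hom_id]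
      rw [this, Category.id_comp]
  have hfb : pullback.fst πY πC ≫ πY = πB := by
    rw [← hb, e, Category.assoc, hb']
  refine t.comp' (bT πX πY (pullback.fst πY πC) hfb) ?_
  rw [bT_comp]
  exact (bT_congr πX _ _ e.symm)

include D in
/-- The induction step along a small extension. -/
theorem trivAt_step {C C' : CommRingCat.{u}} [IsLocalRing C] (q : C ⟶ C') (π : C ⟶ CommRingCat.of k) (ε : C)
    (hq : Function.Surjective q) (hπ : Function.Surjective π) (hker : ∀ a, q a = 0 ↔ ∃ r, ε * r = a)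
    (hann : ∀ a, ε * a = 0 ↔ π a = 0) (hπε : π ε = 0) [Surjective (Spec.map q)] (zC : Spec C ⟶ Z)
    (hz : Spec.map π ≫ zC = D.z₀) (h : TrivAt πX πY πZ L (Spec.map q ≫ zC)) : TrivAt πX πY πZ L zC := by
  intro πC hC πB hb
  have hπC : Spec.map π ≫ πC = 𝟙 _ := by rw [← hC, ← Category.assoc, hz, D.hz₀]
  have hbY : pullback.fst πY πC ≫ πY = πB := by
    rw [← hb, ← Category.assoc, bT_fst]
  letI := D.finite
  let σ := specTriple q π ε
  have hσ : Good σ ⊤ := good_specTriple q π ε hq hπ hker hann hπε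
  let τ := σ.prod πY πC
  haveI : Surjective σ.i' := ‹Surjective (Spec.map q)›
  haveI : Surjective τ.i' := ⟨fun y => surjective_jm πY πC σ y⟩
  let bC := bT πY πZ zC hC
  let LC := (Scheme.Modules.pullback (bT πX (πYZ πY πZ) bC hb)).obj L
  have hLC : PicF.IsInvertible LC := H11Ample.isInvertible_pullback _ D.hL
  -- the trivialisation modulo the parameter
  have hC' : (Spec.map q ≫ zC) ≫ πZ = σ.i' ≫ πC := by rw [Category.assoc, hC]; rfl
  have e' : τ.i' ≫ bC = bT πY πZ (Spec.map q ≫ zC) hC' := bT_comp πY πZ zC hC σ.i' rfl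
  have t' := h (σ.i' ≫ πC) hC' (τ.i' ≫ πB) ((congrArg (· ≫ πYZ πY πZ) e').symm.trans ((Category.assoc _ _ _).trans (congrArg (τ.i' ≫ ·) hb)))
  obtain ⟨g', hg'⟩ := t'.exists_gen (b := jm πX πB τ) (q := bT πX (πYZ πY πZ) bC hb)
    ((bT_comp πX _ bC hb τ.i' rfl).trans (bT_congr πX _ _ e'))
  -- the point
  let π0 : Spec (CommRingCat.of k) ⟶ Spec (CommRingCat.of k) := σ.i0 ≫ πC
  let β : Spec C ⟶ pullback πY πC := pullback.lift (πC ≫ D.y₀) (𝟙 _) (by rw [Category.assoc, D.hy₀]; simp)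
  let m : TMap τ σ :=
    { β := β
      β' := pullback.lift ((σ.i' ≫ πC) ≫ D.y₀) (𝟙 _) (by rw [Category.assoc, D.hy₀]; simp)
      β0 := pullback.lift ((σ.i0 ≫ πC) ≫ D.y₀) (𝟙 _) (by rw [Category.assoc, D.hy₀]; simp)
      w' := lift_bT πY πC σ.i' D.y₀ _ _
      w0 := lift_bT πY πC σ.i0 D.y₀ _ _
      hε := by
        show β.appTop ((pullback.snd πY πC).appTop σ.ε) = σ.ε
        rw [← ConcreteCategory.comp_apply, ← Scheme.Hom.comp_appTop, pullback.lift_snd, Scheme.Hom.id_appTop]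
        rfl }
  let bZ : Z ⟶ pullback πY πZ := pullback.lift (πZ ≫ D.y₀) (𝟙 _) (by rw [Category.assoc, D.hy₀]; simp)
  have hbZ : bZ ≫ πYZ πY πZ = πZ :=
    (Category.assoc _ _ _).symm.trans ((congrArg (· ≫ πY) (pullback.lift_fst _ _ _)).trans
      ((Category.assoc _ _ _).trans ((congrArg (πZ ≫ ·) D.hy₀).trans (Category.comp_id _))))
  have ty := D.triv_y bZ hbZ (pullback.lift_fst _ _ _) (pullback.lift_snd _ _ _)
  have hβ : β ≫ bC = zC ≫ bZ := by
    apply pullback.hom_ext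
    · rw [Category.assoc, bT_fst, Category.assoc, pullback.lift_fst, pullback.lift_fst, ← Category.assoc, hC]
    · rw [Category.assoc, bT_snd, Category.assoc, pullback.lift_snd, Category.comp_id, ← Category.assoc,
        pullback.lift_snd, Category.id_comp]
  have hβπ : β ≫ πB = πC := by
    rw [← hbY, ← Category.assoc, pullback.lift_fst, Category.assoc, D.hy₀, Category.comp_id]
  obtain ⟨gσ, hgσ⟩ := (ty.comp (bT πX πZ zC (show zC ≫ πZ = β ≫ πB by rw [hC, hβπ]))).exists_gen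
    (b := bT πX πB m.β rfl) (q := bT πX (πYZ πY πZ) bC hb)
    ((bT_comp πX _ bC hb m.β rfl).trans ((bT_congr πX _ _ hβ).trans (bT_comp πX _ bZ hbZ zC _).symm))
  have hinj : Function.Injective m.β0.appTop := by
    haveI : IsIso (σ.i0 ≫ πC) := hπC ▸ (inferInstance : IsIso (𝟙 (Spec (CommRingCat.of k))))
    have e : m.β0 ≫ pullback.fst πY (σ.i0 ≫ πC) = D.y₀ :=
      (pullback.lift_fst _ _ _).trans ((congrArg (· ≫ D.y₀) hπC).trans (Category.id_comp _))
    have h1 := D.hY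
    rw [← e, Scheme.Hom.comp_appTop] at h1
    exact Function.Injective.of_comp_right h1
      (ConcreteCategory.bijective_of_isIso (Scheme.Γ.map (pullback.fst πY (σ.i0 ≫ πC)).op)).2
  let P : (pullback πY πC).Opens → Prop := fun V => ∃ W : Y.Opens, IsAffineOpen W ∧ V = Oc πY πC W ⊤
  have hP : ∀ V, P V → Good τ V := by
    rintro V ⟨W, hW, rfl⟩
    exact good_prod πY πC σ hW (flatOn_of_field πY W) hσ
  have hcov : ∀ x, ∃ V, P V ∧ x ∈ V := fun x => by
    obtain ⟨W, hW, hxW, -⟩ := exists_isAffineOpen_mem_and_subset (U := (⊤ : Y.Opens))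
      (x := pullback.fst πY πC x) trivial
    exact ⟨_, ⟨W, hW, rfl⟩, hxW, trivial⟩
  have hinter : ∀ V V', P V → P V' → ∀ x, x ∈ V → x ∈ V' → ∃ W, P W ∧ x ∈ W ∧ W ≤ V ∧ W ≤ V' := by
    rintro V V' ⟨W, -, rfl⟩ ⟨W', -, rfl⟩ x hx hx'
    obtain ⟨W'', hW'', hxW, hle⟩ := exists_isAffineOpen_mem_and_subset (U := W ⊓ W')
      (x := pullback.fst πY πC x) ⟨hx.1, hx'.1⟩
    exact ⟨_, ⟨W'', hW'', rfl⟩, ⟨hxW, trivial⟩, Oc_mono πY πC (hle.trans inf_le_left) le_rfl,
      Oc_mono πY πC (hle.trans inf_le_right) le_rfl⟩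
  have hpt : ∃ V, P V ∧ (⊤ : (Spec C).Opens) ≤ m.β ⁻¹ᵁ V := by
    obtain ⟨V, hV, hc⟩ := hcov (m.β (IsLocalRing.closedPoint C))
    exact ⟨V, hV, fun x _ =>
      ((IsLocalRing.specializes_closedPoint x)).mem_open (m.β ⁻¹ᵁ V).isOpen hc⟩
  have hB : Kills (⊥ : Ideal k) (τ.i0 ≫ πB) := fun a ha => by
    rw [(Submodule.mem_bot k).1 ha, map_zero]
  haveI : (⊥ : Ideal k).IsMaximal := Ideal.bot_isMaximal
  obtain ⟨N, hN, ⟨φ⟩⟩ := H28Pinch.exists_invertible_of_locally_trivial (pullback.snd πX πB) (D.hΓ πB) LC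
    fun x => by
      obtain ⟨V, hV, hxV⟩ := hcov x
      obtain ⟨m', hm'⟩ := exists_gen_step πB τ LC g' D.cover hB hLC hg' P hP hcov hinter m hσ gσ hgσ
        (D.hΓ _ ⊤) hpt hinj hV
      obtain ⟨ψ⟩ := nonempty_iso_structureModule LC _ m' fun V' hV' => hm'.bijective hV'
      exact ⟨V, hxV, ⟨((Scheme.Modules.restrictFunctorIsoPullback _).app LC).symm ≪≫ ψ⟩⟩
  -- the section through the base point of the first factor
  let lx : pullback πY πZ ⟶ pullback πX (πYZ πY πZ) :=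
    pullback.lift (πYZ πY πZ ≫ D.x₀) (𝟙 _) (by rw [Category.assoc, D.hx₀]; simp)
  have tx := D.triv_x lx (pullback.lift_fst _ _ _) (pullback.lift_snd _ _ _)
  let s : pullback πY πC ⟶ pullback πX πB := pullback.lift (πB ≫ D.x₀) (𝟙 _) (by rw [Category.assoc, D.hx₀]; simp)
  have hs : s ≫ bT πX (πYZ πY πZ) bC hb = bC ≫ lx := by
    apply pullback.hom_ext
    · rw [Category.assoc, bT_fst, Category.assoc, pullback.lift_fst, pullback.lift_fst, ← Category.assoc, hb]
    · rw [Category.assoc, bT_snd, Category.assoc, pullback.lift_snd, Category.comp_id, ← Category.assoc,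
        pullback.lift_snd, Category.id_comp]
  obtain ⟨ts⟩ := tx.comp' bC hs.symm
  have eN : N ≅ Coh.structureModule (pullback πY πC) :=
    ((Scheme.Modules.pullbackId _).app N).symm ≪≫
      (Scheme.Modules.pullbackCongr (pullback.lift_snd (πB ≫ D.x₀) (𝟙 _) _).symm).app N ≪≫
      ((Scheme.Modules.pullbackComp s (pullback.snd πX πB)).app N).symm ≪≫
      (Scheme.Modules.pullback s).mapIso φ.symm ≪≫
      (Scheme.Modules.pullbackComp s (bT πX (πYZ πY πZ) bC hb)).app L ≪≫ ts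
  exact ⟨φ ≪≫ (Scheme.Modules.pullback _).mapIso eN ≪≫ PicLoc.pullbackStructureIso _⟩

include D in
/-- The bundle is trivial over every nilpotent thickening of the base point. -/
theorem trivAt_of_nilpotent {R : CommRingCat.{u}} [IsLocalRing R] [IsNoetherianRing R]
    (hnil : IsNilpotent (IsLocalRing.maximalIdeal R)) (π : R ⟶ CommRingCat.of k) (hπ : Function.Surjective π)
    (zR : Spec R ⟶ Z) (hz : Spec.map π ≫ zR = D.z₀) : TrivAt πX πY πZ L zR := by
  suffices H : ∀ (J : Ideal R) (C : CommRingCat.{u}) (q : R ⟶ C), RingHom.ker q.hom = J → Function.Surjective q →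
      ∀ p : C ⟶ CommRingCat.of k, q ≫ p = π → TrivAt πX πY πZ L (Spec.map q ≫ zR) by
    have := H _ R (𝟙 R) rfl (fun x => ⟨x, rfl⟩) π (Category.id_comp _)
    rwa [Spec.map_id, Category.id_comp] at this
  intro J
  induction J using WellFoundedGT.induction with
  | ind J ih =>
    intro C q hJ hq p hqp
    have hp : Function.Surjective p := fun x => by
      obtain ⟨r, rfl⟩ := hπ x
      exact ⟨q r, by rw [← hqp]; rfl⟩
    haveI : Nontrivial C := p.hom.domain_nontrivial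
    haveI : IsLocalRing C := IsLocalRing.of_surjective' q.hom hq
    have hmax : RingHom.ker p.hom = IsLocalRing.maximalIdeal C :=
      IsLocalRing.eq_maximalIdeal (RingHom.ker_isMaximal_of_surjective p.hom hp)
    have hzC : Spec.map p ≫ Spec.map q ≫ zR = D.z₀ := by rw [← Category.assoc, ← Spec.map_comp, hqp, hz]
    by_cases hbot : RingHom.ker p.hom = ⊥
    · haveI : IsIso p := (ConcreteCategory.isIso_iff_bijective p).2 ⟨(RingHom.injective_iff_ker_eq_bot _).2 hbot, hp⟩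
      exact trivAt_of_isIso D _ (Spec.map p) hzC
    · have hnilC : IsNilpotent (IsLocalRing.maximalIdeal C) := by
        obtain ⟨n, hn⟩ := hnil
        refine ⟨n, ?_⟩
        rw [← IsLocalRing.map_maximalIdeal_of_surjective q.hom hq, ← Ideal.map_pow, hn]
        exact Ideal.map_bot
      classical
      have hN := hnilC
      let N := Nat.find hN
      have hN0 : (IsLocalRing.maximalIdeal C) ^ N = 0 := Nat.find_spec hN
      have hN1 : 1 < N := by
        by_contra hle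
        rcases Nat.le_one_iff_eq_zero_or_eq_one.1 (not_lt.1 hle) with h0 | h0
        · rw [h0, pow_zero] at hN0
          exact one_ne_zero hN0
        · rw [h0, pow_one] at hN0
          exact hbot (hmax.trans hN0)
      obtain ⟨ε, hεm, hε⟩ := (Submodule.ne_bot_iff _).1 (Nat.find_min hN (Nat.sub_one_lt (by omega : N ≠ 0)) :
        (IsLocalRing.maximalIdeal C) ^ (N - 1) ≠ ⊥)
      have hεmax : ε ∈ IsLocalRing.maximalIdeal C := Ideal.pow_le_self (by omega) hεm
      have hann : ∀ a, ε * a = 0 ↔ p a = 0 := fun a => by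
        constructor
        · intro h0
          by_contra hne
          have hu : IsUnit a := IsLocalRing.notMem_maximalIdeal.1 (hmax ▸ hne : a ∉ IsLocalRing.maximalIdeal C)
          exact hε ((hu.mul_left_eq_zero).1 h0)
        · intro h0
          have : ε * a ∈ (IsLocalRing.maximalIdeal C) ^ (N - 1 + 1) := by
            rw [pow_succ]
            exact Ideal.mul_mem_mul hεm (hmax ▸ h0 : a ∈ IsLocalRing.maximalIdeal C)
          rw [Nat.sub_add_cancel (by omega : 1 ≤ N), hN0] at this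
          exact this
      have hpε : p ε = 0 := (hmax ▸ hεmax : ε ∈ RingHom.ker p.hom)
      let I : Ideal C := Ideal.span {ε}
      let C' : CommRingCat.{u} := CommRingCat.of (C ⧸ I)
      let q₁ : C ⟶ C' := CommRingCat.ofHom (Ideal.Quotient.mk I)
      have hker : ∀ a, q₁ a = 0 ↔ ∃ r, ε * r = a := fun a => by
        refine Ideal.Quotient.eq_zero_iff_mem.trans (Ideal.mem_span_singleton.trans ?_)
        exact ⟨fun ⟨r, hr⟩ => ⟨r, hr.symm⟩, fun ⟨r, hr⟩ => ⟨r, hr.symm⟩⟩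
      let p' : C' ⟶ CommRingCat.of k := CommRingCat.ofHom (Ideal.Quotient.lift I p.hom fun a ha => by
        obtain ⟨r, rfl⟩ := Ideal.mem_span_singleton.1 ha
        rw [map_mul, hpε, zero_mul])
      haveI : Surjective (Spec.map q₁) := ⟨fun x => by
        have hI : ε ∈ x.asIdeal := by
          refine x.isPrime.mem_of_pow_mem 2 ?_
          rw [pow_two, (hann ε).2 hpε]
          exact zero_mem _
        have : x ∈ Set.range (PrimeSpectrum.comap (Ideal.Quotient.mk I)) := by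
          refine (range_comap_of_surjective _ _ Ideal.Quotient.mk_surjective).ge ?_
          rw [Ideal.mk_ker]
          exact (Ideal.span_singleton_le_iff_mem _).2 hI
        exact this⟩
      refine trivAt_step D q₁ p ε Ideal.Quotient.mk_surjective hp hker hann hpε (Spec.map q ≫ zR) hzC ?_
      have := ih (RingHom.ker (q ≫ q₁).hom) (lt_of_le_of_ne (hJ ▸ fun x hx => by
          rw [RingHom.mem_ker] at hx ⊢
          show q₁ (q x) = 0
          rw [show q x = 0 from hx, map_zero]) fun he => by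
          obtain ⟨r, hr⟩ := hq ε
          have : r ∈ J := he.ge (show q₁ (q r) = 0 by rw [hr]; exact (hker ε).2 ⟨1, mul_one ε⟩)
          rw [← hJ, RingHom.mem_ker] at this
          exact hε (hr.symm.trans this))
        C' (q ≫ q₁) rfl (Ideal.Quotient.mk_surjective.comp hq) p' (by rw [Category.assoc, ← hqp]; rfl)
      rwa [Spec.map_comp, Category.assoc] at this

end Groth.Agent.H12Pic.Cube
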