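import Groth.Agent.H12Pic.Cube.Artin
import Groth.Agent.H12Pic.SeesawScheme
import Groth.Agent.H12Pic.FibreConst
import Mathlib.RingTheory.Filtration

/-!
# The theorem of the cube over a field
-/

set_option autoImplicit false
set_option linter.style.haveILetI false
set_option linter.unusedSectionVars false

noncomputable section

universe u

open CategoryTheory CategoryTheory.Limits AlgebraicGeometry TopologicalSpace Opposite

namespace Groth.Agent.H12Pic.Cube

open Groth.Agent.LeadFF Groth.Agent.H11Tilde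

variable {k : Type u} [Field k] {X Y Z : Scheme.{u}} {πX : X ⟶ Spec (CommRingCat.of k)}
  {πY : Y ⟶ Spec (CommRingCat.of k)} {πZ : Z ⟶ Spec (CommRingCat.of k)}

theorem coord_resS {U : Y.Opens} {V V' : Z.Opens} (hU : IsAffineOpen U) (hV : IsAffineOpen V) (h : V' ≤ V)
    {ι : Type u} {e : letI := alg πY U; Module.Basis ι k Γ(Y, U)}
    {C : Γ(pullback πY πZ, Oc πY πZ U V) ≃+ (ι →₀ Γ(Z, V))}
    (hC : ∀ m r l, C (fstS πY πZ U V m * sndS πY πZ U V r) l = scal πZ V (letI := alg πY U; e.repr m l) * r)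
    {C' : Γ(pullback πY πZ, Oc πY πZ U V') ≃+ (ι →₀ Γ(Z, V'))}
    (hC' : ∀ m r l, C' (fstS πY πZ U V' m * sndS πY πZ U V' r) l = scal πZ V' (letI := alg πY U; e.repr m l) * r)
    (z : Γ(pullback πY πZ, Oc πY πZ U V)) (l : ι) :
    C' (resS πY πZ (le_refl U) h z) l = Z.presheaf.map (homOfLE h).op (C z l) := by
  induction z using induction_oc πY πZ hU hV with
  | h0 => simp
  | hadd x y hx hy => rw [map_add, map_add, map_add, Finsupp.add_apply, Finsupp.add_apply, hx, hy, map_add]
  | hmul m s =>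
    rw [map_mul, resS_fstS, resS_sndS, show (homOfLE (le_refl U)).op = 𝟙 _ from rfl,
      CategoryTheory.Functor.map_id]
    refine (hC' m _ l).trans ?_
    rw [hC, map_mul, map_scal]

/-- Functions vanishing on every infinitesimal neighbourhood of a point vanish, on a Noetherian
integral scheme. -/
theorem eq_zero_of_forall_nhd [IsIntegral Z] [IsLocallyNoetherian Z] {p : Z} {V : Z.Opens} (hp : p ∈ V)
    (r : Γ(Z, V))
    (h : ∀ n : ℕ, Z.presheaf.germ V p hp r ∈ (IsLocalRing.maximalIdeal (Z.presheaf.stalk p)) ^ n) : r = 0 := by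
  haveI : Nonempty V := ⟨⟨p, hp⟩⟩
  refine germ_injective_of_isIntegral Z p hp ?_
  rw [map_zero]
  have := Ideal.iInf_pow_eq_bot_of_isLocalRing (IsLocalRing.maximalIdeal (Z.presheaf.stalk p))
    (IsLocalRing.maximalIdeal.isMaximal _).ne_top
  exact (Submodule.mem_bot _).1 (this ▸ Ideal.mem_iInf.2 h)

theorem triv_fst {A : Type u} [CommRing A] {X B B' : Scheme.{u}} (πX : X ⟶ Spec (CommRingCat.of A))
    (πB : B ⟶ Spec (CommRingCat.of A)) (b : B' ⟶ B) {L : (pullback πX πB).Modules}
    (t : Triv (bT πX πB b rfl) L) : Triv (pullback.fst (pullback.snd πX πB) b) L := by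
  refine t.comp' (pullback.lift (pullback.fst _ _ ≫ pullback.fst πX πB) (pullback.snd _ _) (by
    rw [Category.assoc, pullback.condition, ← Category.assoc, pullback.condition, Category.assoc])) ?_
  apply pullback.hom_ext
  · rw [Category.assoc, bT_fst, pullback.lift_fst]
  · rw [Category.assoc, bT_snd, ← Category.assoc, pullback.lift_snd]
    exact pullback.condition.symm

variable [IsProper πX] [GeometricallyIntegral πX] [LocallyOfFiniteType πY] [LocallyOfFiniteType πZ] [IsIntegral Z]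
  {L : (pullback πX (πYZ πY πZ)).Modules} (D : CubeData πX πY πZ L)

include D in
/-- The theorem of the cube. -/
theorem nonempty_iso_structureModule : Nonempty (L ≅ Coh.structureModule (pullback πX (πYZ πY πZ))) := by
  haveI : IsLocallyNoetherian Z := LocallyOfFiniteType.isLocallyNoetherian πZ
  haveI : IsLocallyNoetherian (pullback πY πZ) := LocallyOfFiniteType.isLocallyNoetherian (πYZ πY πZ)
  haveI : LocallyOfFinitePresentation πX := LocallyOfFinitePresentation.iff_locallyOfFiniteType.2 inferInstance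
  let f := pullback.snd πX (πYZ πY πZ)
  haveI : Flat πX := inferInstance
  haveI : IsProper f := MorphismProperty.pullback_snd _ _ inferInstance
  haveI : Flat f := MorphismProperty.pullback_snd _ _ inferInstance
  haveI : LocallyOfFinitePresentation f := MorphismProperty.pullback_snd _ _ inferInstance
  haveI : GeometricallyIntegral f := inferInstance
  have hint : ∀ s, IsIntegral (f.fiber s) := fun s => by
    haveI : GeometricallyIntegral (f.fiberToSpecResidueField s) :=
      MorphismProperty.of_isPullback (IsPullback.of_hasPullback f ((pullback πY πZ).fromSpecResidueField s))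
        ‹GeometricallyIntegral f›
    exact GeometricallyIntegral.isIntegral_of_subsingleton (f.fiberToSpecResidueField s)
  obtain ⟨W, ι, hι, hW⟩ := exists_seesaw_subscheme f hint
    (fun s => isIso_appTop_fiber_of_geomIntegral f s) D.hL
  haveI := hι
  -- the infinitesimal neighbourhoods of the base point factor
  let p : Z := D.z₀ (IsLocalRing.closedPoint k)
  let O := Z.presheaf.stalk p
  let π : O ⟶ CommRingCat.of k := Scheme.stalkClosedPointTo D.z₀
  have hπz : Spec.map π ≫ Z.fromSpecStalk p = D.z₀ := Scheme.Spec_stalkClosedPointTo_fromSpecStalk _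
  haveI : IsNoetherianRing O := inferInstance
  have hπ : Function.Surjective π := fun x => by
    have h1 : (Spec.map π ≫ Z.fromSpecStalk p ≫ πZ) = Spec.map (𝟙 (CommRingCat.of k)) := by
      rw [← Category.assoc, hπz, D.hz₀, Spec.map_id]
    obtain ⟨φ, hφ⟩ : ∃ φ : CommRingCat.of k ⟶ O, Spec.map φ = Z.fromSpecStalk p ≫ πZ :=
      ⟨_, Spec.map_preimage _⟩
    rw [← hφ, ← Spec.map_comp] at h1
    exact ⟨φ x, ConcreteCategory.congr_hom (Spec.map_injective h1) x⟩
  let m := IsLocalRing.maximalIdeal O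
  have hπm : RingHom.ker π.hom = m := IsLocalRing.eq_maximalIdeal (RingHom.ker_isMaximal_of_surjective π.hom hπ)
  let C : ℕ → CommRingCat.{u} := fun n => CommRingCat.of (O ⧸ m ^ (n + 1))
  let q : ∀ n, O ⟶ C n := fun n => CommRingCat.ofHom (Ideal.Quotient.mk (m ^ (n + 1)))
  let zn : ∀ n, Spec (C n) ⟶ Z := fun n => Spec.map (q n) ≫ Z.fromSpecStalk p
  have hfac : ∀ n, ∃ u' : pullback πY (zn n ≫ πZ) ⟶ W, u' ≫ ι = bT πY πZ (zn n) rfl := by
    intro n
    haveI : Nontrivial (C n) := Ideal.Quotient.nontrivial_iff.2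
      (ne_top_of_le_ne_top (IsLocalRing.maximalIdeal.isMaximal O).ne_top (Ideal.pow_le_self (Nat.succ_ne_zero n)))
    haveI : IsLocalRing (C n) := IsLocalRing.of_surjective' (q n).hom Ideal.Quotient.mk_surjective
    haveI : IsNoetherianRing (C n) := isNoetherianRing_of_surjective O (C n) (q n).hom Ideal.Quotient.mk_surjective
    let πn : C n ⟶ CommRingCat.of k := CommRingCat.ofHom (Ideal.Quotient.lift (m ^ (n + 1)) π.hom fun a ha =>
      RingHom.mem_ker.1 (hπm ▸ Ideal.pow_le_self (Nat.succ_ne_zero n) ha))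
    have hnil : IsNilpotent (IsLocalRing.maximalIdeal (C n)) := by
      refine ⟨n + 1, ?_⟩
      rw [← IsLocalRing.map_maximalIdeal_of_surjective (q n).hom Ideal.Quotient.mk_surjective, ← Ideal.map_pow]
      exact Ideal.map_quotient_self _
    have hzn : Spec.map πn ≫ zn n = D.z₀ := by
      rw [← Category.assoc, ← Spec.map_comp]
      exact hπz
    have t := trivAt_of_nilpotent D hnil πn (fun x => ⟨q n (hπ x).choose, (hπ x).choose_spec⟩) (zn n) hzn
      (zn n ≫ πZ) rfl (bT πY πZ (zn n) rfl ≫ πYZ πY πZ) rfl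
    refine (hW _ _).2 ⟨Coh.structureModule _, PicLoc.isInvertible_structureModule _, ?_⟩
    exact ⟨(triv_fst πX _ _ t).some ≪≫ (PicLoc.pullbackStructureIso _).symm⟩
  -- hence the subscheme is everything
  have key : ∀ (V : Y.Opens) (U : Z.Opens) (hV : IsAffineOpen V) (hU : IsAffineOpen U), p ∈ U →
      ι.ker.ideal ⟨Oc πY πZ V U, isAffineOpen_Oc πY πZ hV hU⟩ = ⊥ := by
    intro V U hV hU hp
    refine eq_bot_iff.2 fun a ha => (Submodule.mem_bot _).2 ?_
    rw [Scheme.Hom.ker_apply, RingHom.mem_ker] at ha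
    letI := alg πY V
    obtain ⟨E, hE⟩ := exists_coord πY πZ hV hU (Module.Free.chooseBasis k Γ(Y, V))
    apply E.injective
    rw [map_zero]
    refine Finsupp.ext fun l => eq_zero_of_forall_nhd hp _ fun n => Ideal.pow_le_pow_right n.le_succ ?_
    obtain ⟨u', hu'⟩ := hfac n
    haveI : Nontrivial (C n) := Ideal.Quotient.nontrivial_iff.2
      (ne_top_of_le_ne_top (IsLocalRing.maximalIdeal.isMaximal O).ne_top (Ideal.pow_le_self (Nat.succ_ne_zero n)))
    haveI : IsLocalRing (C n) := IsLocalRing.of_surjective' (q n).hom Ideal.Quotient.mk_surjective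
    have hc : zn n (IsLocalRing.closedPoint (C n)) = p := by
      haveI : IsLocalHom (q n).hom := IsLocalHom.of_surjective _ Ideal.Quotient.mk_surjective
      rw [Scheme.Hom.comp_apply, Spec_closedPoint, Scheme.fromSpecStalk_closedPoint]
    have htop : zn n ⁻¹ᵁ U = ⊤ := top_le_iff.1 fun x _ =>
      (IsLocalRing.specializes_closedPoint x).mem_open (zn n ⁻¹ᵁ U).isOpen (show zn n _ ∈ U from hc.symm ▸ hp)
    have hU' : IsAffineOpen (zn n ⁻¹ᵁ U) := htop ▸ isAffineOpen_top _
    obtain ⟨E', hE'⟩ := exists_coord πY (zn n ≫ πZ) hV hU' (Module.Free.chooseBasis k Γ(Y, V))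
    have h0 : bS πY πZ (zn n) rfl (le_refl V) (le_refl (zn n ⁻¹ᵁ U)) a = 0 := by
      rw [bS]
      simp only [← hu', Scheme.Hom.comp_appLE, CommRingCat.comp_apply]
      erw [ha]
      exact map_zero _
    have h1 := coord_bS πY πZ (zn n) rfl hV hU hU' hE hE' a l
    rw [h0, map_zero, Finsupp.zero_apply] at h1
    refine Ideal.Quotient.eq_zero_iff_mem.1 ?_
    have h2 : (Z.fromSpecStalk p).appLE U ⊤ (fun x _ => (IsLocalRing.specializes_closedPoint x).mem_open
        ((Z.fromSpecStalk p) ⁻¹ᵁ U).isOpen (show Z.fromSpecStalk p _ ∈ U from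
          (Scheme.fromSpecStalk_closedPoint (X := Z) (x := p)).symm ▸ hp)) =
        Z.presheaf.germ U p hp ≫ (Scheme.ΓSpecIso O).inv := by
      rw [Scheme.Hom.appLE, Scheme.fromSpecStalk_app hp, Category.assoc, Category.assoc, ← Functor.map_comp,
        Subsingleton.elim (_ ≫ _) (𝟙 _), CategoryTheory.Functor.map_id]
      erw [Category.comp_id]
    have h4 : (zn n).appLE U ⊤ htop.ge (E a l) = 0 := (appLE_eq_zero_congr (zn n) htop (E a l)).2 h1.symm
    have h3 : (zn n).appLE U ⊤ htop.ge (E a l) =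
        (Scheme.ΓSpecIso (C n)).inv (q n (Z.presheaf.germ U p hp (E a l))) := by
      rw [← appLE_SpecMap_top]
      refine (ConcreteCategory.congr_hom (Scheme.Hom.appLE_comp_appLE (Spec.map (q n)) (Z.fromSpecStalk p)
        U ⊤ ⊤ (fun x _ => (IsLocalRing.specializes_closedPoint x).mem_open
        ((Z.fromSpecStalk p) ⁻¹ᵁ U).isOpen (show Z.fromSpecStalk p _ ∈ U from
          (Scheme.fromSpecStalk_closedPoint (X := Z) (x := p)).symm ▸ hp)) le_rfl).symm (E a l)).trans ?_
      rw [CommRingCat.comp_apply, h2]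
      rfl
    exact (ConcreteCategory.bijective_of_isIso (Scheme.ΓSpecIso (C n)).inv).1
      ((h3.symm.trans h4).trans (map_zero _).symm)
  have hbot : ι.ker = ⊥ := by
    let idx := {P : Y.Opens × Z.Opens // IsAffineOpen P.1 ∧ IsAffineOpen P.2}
    refine Scheme.IdealSheafData.ext_of_iSup_eq_top
      (fun P : idx => ⟨Oc πY πZ P.1.1 P.1.2, isAffineOpen_Oc πY πZ P.2.1 P.2.2⟩) ?_ fun P => ?_
    · refine top_le_iff.1 fun x _ => ?_
      obtain ⟨V, hV, hxV, -⟩ := exists_isAffineOpen_mem_and_subset (U := (⊤ : Y.Opens))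
        (x := pullback.fst πY πZ x) trivial
      obtain ⟨U, hU, hxU, -⟩ := exists_isAffineOpen_mem_and_subset (U := (⊤ : Z.Opens))
        (x := pullback.snd πY πZ x) trivial
      exact Opens.mem_iSup.2 ⟨⟨(V, U), hV, hU⟩, hxV, hxU⟩
    rw [Scheme.IdealSheafData.ideal_bot]
    refine eq_bot_iff.2 fun a ha => (Submodule.mem_bot _).2 ?_
    obtain ⟨U₀, hU₀, hpU₀, -⟩ := exists_isAffineOpen_mem_and_subset (U := (⊤ : Z.Opens)) (x := p) trivial
    obtain ⟨⟨V, U⟩, hV, hU⟩ := P
    rcases (U : Set Z).eq_empty_or_nonempty with hempty | hne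
    · refine TopCat.Presheaf.section_ext ⟨(pullback πY πZ).presheaf, (pullback πY πZ).sheaf.property⟩ _ _ _
        fun x hx => ?_
      exact absurd hx.2 (Set.eq_empty_iff_forall_notMem.1 hempty _)
    obtain ⟨z, hzU₀, hzU⟩ := nonempty_preirreducible_inter U₀.isOpen U.isOpen ⟨p, hpU₀⟩ hne
    obtain ⟨g, hg, hzg⟩ := hU₀.exists_basicOpen_le ⟨z, hzU⟩ hzU₀
    haveI : Nonempty (Z.basicOpen g : Z.Opens) := ⟨⟨z, hzg⟩⟩
    have hbo : Oc πY πZ V (Z.basicOpen g) = (pullback πY πZ).basicOpen (sndS πY πZ V U₀ g) := by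
      rw [sndS, Scheme.Hom.appLE, CommRingCat.comp_apply, Scheme.basicOpen_res, ← Scheme.preimage_basicOpen]
      ext x
      exact ⟨fun h => ⟨⟨h.1, Z.basicOpen_le g h.2⟩, h.2⟩, fun h => ⟨h.1.1, h.2⟩⟩
    have hz0 : ι.ker.ideal ⟨Oc πY πZ V (Z.basicOpen g), isAffineOpen_Oc πY πZ hV (hU₀.basicOpen g)⟩ = ⊥ := by
      have h1 := ι.ker.map_ideal_basicOpen ⟨Oc πY πZ V U₀, isAffineOpen_Oc πY πZ hV hU₀⟩ (sndS πY πZ V U₀ g)
      rw [key V U₀ hV hU₀ hpU₀, Ideal.map_bot] at h1
      have h2 : (⟨Oc πY πZ V (Z.basicOpen g), isAffineOpen_Oc πY πZ hV (hU₀.basicOpen g)⟩ :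
          (pullback πY πZ).affineOpens) = (pullback πY πZ).affineBasicOpen
            (U := ⟨Oc πY πZ V U₀, isAffineOpen_Oc πY πZ hV hU₀⟩) (sndS πY πZ V U₀ g) := Subtype.ext hbo
      rw [h2]
      exact h1.symm
    have h3 : resS πY πZ (le_refl V) hg a = 0 := by
      have h4 := ι.ker.ideal_le_comap_ideal
        (U := ⟨Oc πY πZ V (Z.basicOpen g), isAffineOpen_Oc πY πZ hV (hU₀.basicOpen g)⟩)
        (V := ⟨Oc πY πZ V U, isAffineOpen_Oc πY πZ hV hU⟩) (Oc_mono πY πZ le_rfl hg) ha
      rw [Ideal.mem_comap, hz0] at h4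
      exact (Submodule.mem_bot _).1 h4
    letI := alg πY V
    obtain ⟨E, hE⟩ := exists_coord πY πZ hV hU (Module.Free.chooseBasis k Γ(Y, V))
    obtain ⟨E', hE'⟩ := exists_coord πY πZ hV (hU₀.basicOpen g) (Module.Free.chooseBasis k Γ(Y, V))
    apply E.injective
    rw [map_zero]
    refine Finsupp.ext fun l => map_injective_of_isIntegral Z (homOfLE hg) ?_
    rw [← coord_resS hV hU hg hE hE', h3, map_zero, Finsupp.zero_apply, Finsupp.zero_apply, map_zero]
  haveI : IsIso ι := IsClosedImmersion.isIso_iff_ker_eq_bot.2 hbot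
  obtain ⟨N, hN, ⟨φ⟩⟩ := (hW _ (𝟙 _)).1 ⟨inv ι, IsIso.inv_hom_id _⟩
  -- untwist
  let d : pullback πX (πYZ πY πZ) ⟶ pullback f (𝟙 (pullback πY πZ)) :=
    pullback.lift (𝟙 _) f (by rw [Category.id_comp, Category.comp_id])
  have e : L ≅ (Scheme.Modules.pullback f).obj N :=
    ((Scheme.Modules.pullbackId _).app L).symm ≪≫
      (Scheme.Modules.pullbackCongr (pullback.lift_fst (f := f) (g := 𝟙 _) (𝟙 _) f _).symm).app L ≪≫
      ((Scheme.Modules.pullbackComp d (pullback.fst f (𝟙 _))).app L).symm ≪≫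
      (Scheme.Modules.pullback d).mapIso φ ≪≫
      (Scheme.Modules.pullbackComp d (pullback.snd f (𝟙 _))).app N ≪≫
      (Scheme.Modules.pullbackCongr (pullback.lift_snd (f := f) (g := 𝟙 _) (𝟙 _) f _)).app N
  let lx : pullback πY πZ ⟶ pullback πX (πYZ πY πZ) :=
    pullback.lift (πYZ πY πZ ≫ D.x₀) (𝟙 _) (by rw [Category.assoc, D.hx₀]; simp)
  obtain ⟨tx⟩ := D.triv_x lx (pullback.lift_fst _ _ _) (pullback.lift_snd _ _ _)
  have eN : N ≅ Coh.structureModule (pullback πY πZ) :=
    ((Scheme.Modules.pullbackId _).app N).symm ≪≫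
      (Scheme.Modules.pullbackCongr (pullback.lift_snd (πYZ πY πZ ≫ D.x₀) (𝟙 _) _).symm).app N ≪≫
      ((Scheme.Modules.pullbackComp lx f).app N).symm ≪≫
      (Scheme.Modules.pullback lx).mapIso e.symm ≪≫ tx
  exact ⟨e ≪≫ (Scheme.Modules.pullback f).mapIso eN ≪≫ PicLoc.pullbackStructureIso f⟩

end Groth.Agent.H12Pic.Cube
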