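import Groth.Agent.H12Pic.Cube.Sect
import Mathlib.LinearAlgebra.TensorProduct.Basis

/-!
# Exactness of sections over boxes with a free first factor
-/

set_option autoImplicit false
set_option linter.style.haveILetI false
set_option linter.unusedSectionVars false

noncomputable section

universe u

open CategoryTheory CategoryTheory.Limits AlgebraicGeometry TopologicalSpace Opposite
open scoped TensorProduct

namespace Groth.Agent.H12Pic.Cube

open Groth.Agent.LeadFF

variable {A : Type u} [CommRing A] {X : Scheme.{u}} (πX : X ⟶ Spec (CommRingCat.of A))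

/-- The sections over an affine open are flat over the base. -/
def FlatOn (U : X.Opens) : Prop :=
  letI := alg πX U
  Module.Flat A Γ(X, U)

theorem flatOn_of_field {k : Type u} [Field k] {X : Scheme.{u}} (π : X ⟶ Spec (CommRingCat.of k)) (U : X.Opens) :
    FlatOn π U :=
  letI := alg π U
  haveI : Module.Free k Γ(X, U) := Module.Free.of_divisionRing k Γ(X, U)
  Module.Flat.of_free

variable {B B' : Scheme.{u}} (πB : B ⟶ Spec (CommRingCat.of A)) {πB' : B' ⟶ Spec (CommRingCat.of A)}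
  (b : B' ⟶ B) (hb : b ≫ πB = πB') {U : X.Opens} {V : B.Opens} (hU : IsAffineOpen U) (hV : IsAffineOpen V)
  (hV' : IsAffineOpen (b ⁻¹ᵁ V))

theorem appLE_scal (V : B.Opens) (V' : B'.Opens) (h : V' ≤ b ⁻¹ᵁ V) (hb : b ≫ πB = πB') (a : A) :
    b.appLE V V' h (scal πB V a) = scal πB' V' a := by
  have h' : CommRingCat.ofHom (scal πB V) ≫ b.appLE V V' h = CommRingCat.ofHom (scal πB' V') := by
    rw [scal_eq_appLE, scal_eq_appLE, Category.assoc, Scheme.Hom.appLE_comp_appLE]
    simp only [hb]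
  exact ConcreteCategory.congr_hom h' a

include hU hV hV' hb in
/-- Surjectivity passes to boxes. -/
theorem bS_surjective (hs : Function.Surjective (b.appLE V (b ⁻¹ᵁ V) le_rfl)) :
    Function.Surjective (bS πX πB b hb (le_refl U) (le_refl (b ⁻¹ᵁ V))) := by
  intro z
  induction z using induction_oc πX πB' hU hV' with
  | h0 => exact ⟨0, map_zero _⟩
  | hadd x y hx hy =>
    obtain ⟨x', rfl⟩ := hx
    obtain ⟨y', rfl⟩ := hy
    exact ⟨x' + y', map_add _ _ _⟩
  | hmul m r =>
    obtain ⟨r', rfl⟩ := hs r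
    refine ⟨fstS πX πB U V m * sndS πX πB U V r', ?_⟩
    rw [map_mul, bS_fstS, bS_sndS]
    congr 2
    rw [show (homOfLE (le_refl U)).op = 𝟙 _ from rfl, CategoryTheory.Functor.map_id]
    rfl

include hU hV in
/-- Coordinates on a box along a basis of the first factor. -/
theorem exists_coord {ι : Type u} (e : letI := alg πX U; Module.Basis ι A Γ(X, U)) :
    ∃ C : Γ(pullback πX πB, Oc πX πB U V) ≃+ (ι →₀ Γ(B, V)),
      ∀ m r l, C (fstS πX πB U V m * sndS πX πB U V r) l =
        scal πB V (letI := alg πX U; e.repr m l) * r := by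
  letI := alg πX U
  letI := alg πB V
  obtain ⟨ε, hε⟩ := exists_secEquiv πX πB hU hV
  haveI := Classical.decEq ι
  refine ⟨ε.symm.trans (TensorProduct.equivFinsuppOfBasisLeft e).toAddEquiv, fun m r l => ?_⟩
  show TensorProduct.equivFinsuppOfBasisLeft e (ε.symm _) l = _
  rw [← hε, AddEquiv.symm_apply_apply, TensorProduct.equivFinsuppOfBasisLeft_apply_tmul_apply]
  exact Algebra.smul_def _ r

include hU hV in
theorem coord_mul_sndS {ι : Type u} {e : letI := alg πX U; Module.Basis ι A Γ(X, U)}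
    {C : Γ(pullback πX πB, Oc πX πB U V) ≃+ (ι →₀ Γ(B, V))}
    (hC : ∀ m r l, C (fstS πX πB U V m * sndS πX πB U V r) l =
      scal πB V (letI := alg πX U; e.repr m l) * r) (r : Γ(B, V)) (z : Γ(pullback πX πB, Oc πX πB U V)) (l : ι) :
    C (sndS πX πB U V r * z) l = r * C z l := by
  induction z using induction_oc πX πB hU hV with
  | h0 => simp
  | hadd x y hx hy => rw [mul_add, map_add, map_add, Finsupp.add_apply, Finsupp.add_apply, hx, hy, mul_add]
  | hmul m s => rw [mul_left_comm, ← map_mul, hC, hC, mul_left_comm]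

include hU hV hV' in
theorem coord_bS {ι : Type u} {e : letI := alg πX U; Module.Basis ι A Γ(X, U)}
    {C : Γ(pullback πX πB, Oc πX πB U V) ≃+ (ι →₀ Γ(B, V))}
    (hC : ∀ m r l, C (fstS πX πB U V m * sndS πX πB U V r) l =
      scal πB V (letI := alg πX U; e.repr m l) * r)
    {C' : Γ(pullback πX πB', Oc πX πB' U (b ⁻¹ᵁ V)) ≃+ (ι →₀ Γ(B', b ⁻¹ᵁ V))}
    (hC' : ∀ m r l, C' (fstS πX πB' U (b ⁻¹ᵁ V) m * sndS πX πB' U (b ⁻¹ᵁ V) r) l =
      scal πB' (b ⁻¹ᵁ V) (letI := alg πX U; e.repr m l) * r)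
    (z : Γ(pullback πX πB, Oc πX πB U V)) (l : ι) :
    C' (bS πX πB b hb (le_refl U) (le_refl (b ⁻¹ᵁ V)) z) l = b.appLE V (b ⁻¹ᵁ V) le_rfl (C z l) := by
  induction z using induction_oc πX πB hU hV with
  | h0 => simp
  | hadd x y hx hy => rw [map_add, map_add, map_add, Finsupp.add_apply, Finsupp.add_apply, hx, hy, map_add]
  | hmul m s =>
    rw [map_mul, bS_fstS, bS_sndS, show (homOfLE (le_refl U)).op = 𝟙 _ from rfl,
      CategoryTheory.Functor.map_id]
    refine (hC' m _ l).trans ?_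
    rw [hC, map_mul, appLE_scal πB b V _ le_rfl hb]

/-- Restriction of functions as a linear map. -/
def appLin : letI := alg πB V; letI := alg πB' (b ⁻¹ᵁ V); Γ(B, V) →ₗ[A] Γ(B', b ⁻¹ᵁ V) :=
  letI := alg πB V
  letI := alg πB' (b ⁻¹ᵁ V)
  { toFun := b.appLE V (b ⁻¹ᵁ V) le_rfl
    map_add' := map_add _
    map_smul' := fun a r => by
      show b.appLE V (b ⁻¹ᵁ V) le_rfl (scal πB V a * r) = scal πB' (b ⁻¹ᵁ V) a * b.appLE V (b ⁻¹ᵁ V) le_rfl r
      rw [map_mul, appLE_scal πB b V _ le_rfl hb] }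

include hU hV hV' in
/-- The kernel of restriction to a square-zero thickening, on boxes. -/
theorem bS_eq_zero_iff (hf : FlatOn πX U) (e : Γ(B, V))
    (hker : ∀ a, b.appLE V (b ⁻¹ᵁ V) le_rfl a = 0 ↔ ∃ r, e * r = a)
    (z : Γ(pullback πX πB, Oc πX πB U V)) :
    bS πX πB b hb (le_refl U) (le_refl (b ⁻¹ᵁ V)) z = 0 ↔ ∃ w, sndS πX πB U V e * w = z := by
  letI := alg πX U
  letI := alg πB V
  letI := alg πB' (b ⁻¹ᵁ V)
  haveI : Module.Flat A Γ(X, U) := hf
  obtain ⟨ε, hε⟩ := exists_secEquiv πX πB hU hV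
  obtain ⟨ε', hε'⟩ := exists_secEquiv πX πB' hU hV'
  let φ := appLin (V := V) πB b hb
  let μ : Γ(B, V) →ₗ[A] Γ(B, V) := LinearMap.mulLeft A e
  have hφ : ∀ t, bS πX πB b hb (le_refl U) (le_refl (b ⁻¹ᵁ V)) (ε t) = ε' (φ.lTensor Γ(X, U) t) := fun t => by
    induction t using TensorProduct.induction_on with
    | zero => simp
    | add x y hx hy => simp only [map_add, hx, hy]
    | tmul m r =>
      rw [LinearMap.lTensor_tmul, hε, map_mul, bS_fstS, bS_sndS, show (homOfLE (le_refl U)).op = 𝟙 _ from rfl,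
        CategoryTheory.Functor.map_id, hε']
      rfl
  have hμ : ∀ t, sndS πX πB U V e * ε t = ε (μ.lTensor Γ(X, U) t) := fun t => by
    induction t using TensorProduct.induction_on with
    | zero => simp
    | add x y hx hy => simp only [map_add, mul_add, hx, hy]
    | tmul m r =>
      rw [LinearMap.lTensor_tmul, hε, hε]
      show _ = fstS πX πB U V m * sndS πX πB U V (e * r)
      rw [map_mul, mul_left_comm]
  have hex : Function.Exact (μ.lTensor Γ(X, U)) (φ.lTensor Γ(X, U)) :=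
    Module.Flat.lTensor_exact Γ(X, U) fun a => hker a
  obtain ⟨t, rfl⟩ := ε.surjective z
  rw [hφ, ε'.map_eq_zero_iff, hex t]
  exact ⟨fun ⟨y, hy⟩ => ⟨ε y, by rw [hμ, hy]⟩, fun ⟨w, hw⟩ => by
    obtain ⟨y, rfl⟩ := ε.surjective w
    exact ⟨y, ε.injective ((hμ y).symm.trans hw)⟩⟩

include hU hV hV' in
/-- The annihilator of the parameter, on boxes. -/
theorem sndS_mul_eq_zero_iff (hf : FlatOn πX U) (e : Γ(B, V))
    (hker : ∀ a, e * a = 0 ↔ b.appLE V (b ⁻¹ᵁ V) le_rfl a = 0)
    (z : Γ(pullback πX πB, Oc πX πB U V)) :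
    sndS πX πB U V e * z = 0 ↔ bS πX πB b hb (le_refl U) (le_refl (b ⁻¹ᵁ V)) z = 0 := by
  letI := alg πX U
  letI := alg πB V
  letI := alg πB' (b ⁻¹ᵁ V)
  haveI : Module.Flat A Γ(X, U) := hf
  obtain ⟨ε, hε⟩ := exists_secEquiv πX πB hU hV
  obtain ⟨ε', hε'⟩ := exists_secEquiv πX πB' hU hV'
  let φ := appLin (V := V) πB b hb
  let μ : Γ(B, V) →ₗ[A] Γ(B, V) := LinearMap.mulLeft A e
  have hK : LinearMap.ker μ = LinearMap.ker φ := Submodule.ext fun a => hker a
  have hφ : ∀ t, bS πX πB b hb (le_refl U) (le_refl (b ⁻¹ᵁ V)) (ε t) = ε' (φ.lTensor Γ(X, U) t) := fun t => by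
    induction t using TensorProduct.induction_on with
    | zero => simp
    | add x y hx hy => simp only [map_add, hx, hy]
    | tmul m r =>
      rw [LinearMap.lTensor_tmul, hε, map_mul, bS_fstS, bS_sndS, show (homOfLE (le_refl U)).op = 𝟙 _ from rfl,
        CategoryTheory.Functor.map_id, hε']
      rfl
  have hμ : ∀ t, sndS πX πB U V e * ε t = ε (μ.lTensor Γ(X, U) t) := fun t => by
    induction t using TensorProduct.induction_on with
    | zero => simp
    | add x y hx hy => simp only [map_add, mul_add, hx, hy]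
    | tmul m r =>
      rw [LinearMap.lTensor_tmul, hε, hε]
      show _ = fstS πX πB U V m * sndS πX πB U V (e * r)
      rw [map_mul, mul_left_comm]
  obtain ⟨t, rfl⟩ := ε.surjective z
  rw [hμ, hφ, ε.map_eq_zero_iff, ε'.map_eq_zero_iff,
    (Module.Flat.lTensor_exact Γ(X, U) (LinearMap.exact_subtype_ker_map μ)) t,
    (Module.Flat.lTensor_exact Γ(X, U) (LinearMap.exact_subtype_ker_map φ)) t, hK]

end Groth.Agent.H12Pic.Cube
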