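import Groth.Agent.H12Pic.Cube.Triple
import Groth.Agent.H12Pic.Seesaw
import Groth.Agent.H8Props.RelFP.PullSections

/-!
# Lifts of a trivialisation across a square-zero triple
-/

set_option autoImplicit false
set_option linter.style.haveILetI false
set_option linter.unusedSectionVars false

noncomputable section

universe u

open CategoryTheory CategoryTheory.Limits AlgebraicGeometry TopologicalSpace Opposite

namespace Groth.Agent.H12Pic.Cube

open Groth.Agent.LeadFF Groth.Agent.H11Tilde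

variable {A : Type u} [CommRing A] {X : Scheme.{u}} (πX : X ⟶ Spec (CommRingCat.of A))

theorem bS_resS {B B' : Scheme.{u}} (πB : B ⟶ Spec (CommRingCat.of A)) {πB' : B' ⟶ Spec (CommRingCat.of A)}
    (b : B' ⟶ B) (hb : b ≫ πB = πB') {U U' : X.Opens} {V W : B.Opens} {V' W' : B'.Opens}
    (hU : U' ≤ U) (hV : W ≤ V) (hV' : W' ≤ V') (hb₁ : V' ≤ b ⁻¹ᵁ V) (hb₂ : W' ≤ b ⁻¹ᵁ W)
    (z : Γ(pullback πX πB, Oc πX πB U V)) :
    bS πX πB b hb (le_refl U') hb₂ (resS πX πB hU hV z) =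
      resS πX πB' hU hV' (bS πX πB b hb (le_refl U) hb₁ z) := by
  have h : resS πX πB hU hV ≫ bS πX πB b hb (le_refl U') hb₂ =
      bS πX πB b hb (le_refl U) hb₁ ≫ resS πX πB' hU hV' := by
    rw [resS, resS, bS, bS, Scheme.Hom.map_appLE, Scheme.Hom.appLE_map]
  exact ConcreteCategory.congr_hom h z

variable {B : Scheme.{u}} (πB : B ⟶ Spec (CommRingCat.of A)) (τ : Triple B)

/-- The inclusion of the thickened-from product. -/
abbrev jm : pullback πX (τ.i' ≫ πB) ⟶ pullback πX πB := bT πX πB τ.i' rfl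

theorem surjective_jm [Surjective τ.i'] (y : ↥(pullback πX πB)) : ∃ x, jm πX πB τ x = y := by
  have h : Set.range (jm πX πB τ) =
      pullback.fst πX πB ⁻¹' Set.range (𝟙 X : X ⟶ X) ∩ pullback.snd πX πB ⁻¹' Set.range τ.i' := by
    rw [jm, bT, Scheme.Pullback.range_map]
  have : y ∈ Set.range (jm πX πB τ) := by
    rw [h]
    exact ⟨⟨_, rfl⟩, τ.i'.surjective _⟩
  exact this

variable (L : (pullback πX πB).Modules) (g' : Γ((Scheme.Modules.pullback (jm πX πB τ)).obj L, ⊤))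

/-- A generator over a box lifting the given one. -/
def IsLift (U : X.Opens) (V : B.Opens) (h : Γ(L, Oc πX πB U V)) : Prop :=
  IsGen L h ∧ OmegaSh.pullSect (jm πX πB τ) L (Oc πX πB U V) h =
    ((Scheme.Modules.pullback (jm πX πB τ)).obj L).presheaf.map (homOfLE le_top).op g'

theorem IsLift.res {U U' : X.Opens} {V V' : B.Opens} {h : Γ(L, Oc πX πB U V)} (hh : IsLift πX πB τ L g' U V h)
    (hU : U' ≤ U) (hV : V' ≤ V) :
    IsLift πX πB τ L g' U' V' (L.presheaf.map (homOfLE (Oc_mono πX πB hU hV)).op h) := by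
  refine ⟨hh.1.res _, ?_⟩
  rw [pullSect_res, hh.2, H10Coh.mres_mres]

variable {U : X.Opens} {V : B.Opens} (hU : IsAffineOpen U) (hV : Good τ V)

include hU hV in
theorem exists_isLift [Surjective τ.i'] (hL : PicF.IsInvertible L)
    (hg : IsGen ((Scheme.Modules.pullback (jm πX πB τ)).obj L) g') :
    ∃ h, IsLift πX πB τ L g' U V h := by
  let W := Oc πX πB U V
  let j := jm πX πB τ
  haveI : L.IsQuasicoherent := H28Mero.isQCoh_of_isInvertible hL
  have hW : IsAffineOpen W := isAffineOpen_Oc πX πB hU hV.aff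
  have he : j ⁻¹ᵁ W = Oc πX (τ.i' ≫ πB) U (τ.i' ⁻¹ᵁ V) := bT_preimage_Oc πX πB τ.i' rfl U V
  have hW' : IsAffineOpen (j ⁻¹ᵁ W) := he ▸ isAffineOpen_Oc πX _ hU hV.aff'
  have hs : Function.Surjective (j.appLE W (j ⁻¹ᵁ W) le_rfl) :=
    (surjective_appLE_congr j he).1 (bS_surjective πX πB τ.i' rfl hU hV.aff hV.aff' hV.surj')
  have hbc := H8Props.PullSections.isBaseChange_pullLin j L (le_refl (j ⁻¹ᵁ W))
    (H28Mero.isQCoh_of_isInvertible hL) hW hW'
  have hpull : ∀ t : Γ((Scheme.Modules.pullback j).obj L, j ⁻¹ᵁ W), ∃ m, OmegaSh.pullSect j L W m = t := by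
    intro t
    letI := (j.appLE W (j ⁻¹ᵁ W) le_rfl).hom.toAlgebra
    letI := Module.compHom Γ((Scheme.Modules.pullback j).obj L, j ⁻¹ᵁ W) (j.appLE W (j ⁻¹ᵁ W) le_rfl).hom
    haveI : IsScalarTower Γ(pullback πX πB, W) Γ(pullback πX (τ.i' ≫ πB), j ⁻¹ᵁ W)
        Γ((Scheme.Modules.pullback j).obj L, j ⁻¹ᵁ W) := .of_algebraMap_smul fun _ _ => rfl
    refine hbc.inductionOn t (fun t => ∃ m, OmegaSh.pullSect j L W m = t) ⟨0, map_zero _⟩
      (fun m => ⟨m, ?_⟩) (fun s n hn => ?_) fun n₁ n₂ h₁ h₂ => ?_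
    · exact (H10Coh.mres_self _ _ _).symm
    · obtain ⟨m, rfl⟩ := hn
      obtain ⟨r, rfl⟩ := hs s
      exact ⟨r • m, by rw [OmegaSh.pullSect_smul, Scheme.Hom.app_eq_appLE]⟩
    · obtain ⟨m₁, rfl⟩ := h₁
      obtain ⟨m₂, rfl⟩ := h₂
      exact ⟨m₁ + m₂, map_add _ _ _⟩
  obtain ⟨h, hh⟩ := hpull (((Scheme.Modules.pullback j).obj L).presheaf.map (homOfLE le_top).op g')
  refine ⟨h, fun y hy => ?_, hh⟩
  obtain ⟨x, rfl⟩ := surjective_jm πX πB τ y
  refine bijective_germ_of_pullSect j hL h x hy ?_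
  rw [hh]
  exact (hg.res le_top) x hy

theorem eq_of_smul_gen {T : Scheme.{u}} {M : T.Modules} {W : T.Opens} {e : Γ(M, W)} (he : IsGen M e)
    {r r' : Γ(T, W)} (h : r • e = r' • e) : r = r' :=
  (he.bijective le_rfl).1 (by simpa [H10Coh.mres_self] using h)

variable (hf : FlatOn πX U)

include hU hV hf in
theorem bS_eq_of_mul_eq {c d : Γ(pullback πX πB, Oc πX πB U V)}
    (h : sndS πX πB U V (τ.e V) * c = sndS πX πB U V (τ.e V) * d) :
    bS πX πB τ.i0 rfl (le_refl U) (le_refl (τ.i0 ⁻¹ᵁ V)) c = bS πX πB τ.i0 rfl (le_refl U) (le_refl (τ.i0 ⁻¹ᵁ V)) d := by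
  rw [← sub_eq_zero, ← map_sub]
  refine (sndS_mul_eq_zero_iff πX πB τ.i0 rfl hU hV.aff hV.aff0 hf (τ.e V) hV.ker0 _).1 ?_
  rw [mul_sub, h, sub_self]

include hV in
theorem sndS_e_sq : sndS πX πB U V (τ.e V) * sndS πX πB U V (τ.e V) = 0 := by
  rw [← map_mul, hV.sq, map_zero]

include hU hV hf in
theorem exists_rel {h h₁ : Γ(L, Oc πX πB U V)} (hh : IsLift πX πB τ L g' U V h)
    (hh₁ : IsLift πX πB τ L g' U V h₁) :
    ∃ c, h₁ = (1 + sndS πX πB U V (τ.e V) * c) • h := by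
  obtain ⟨r, hr⟩ := H11Ample.exists_coeff hh.1 h₁
  have hg : IsGen ((Scheme.Modules.pullback (jm πX πB τ)).obj L)
      (OmegaSh.pullSect (jm πX πB τ) L (Oc πX πB U V) h) := IsGen.pullSect _ hh.1
  have h1 : (jm πX πB τ).app (Oc πX πB U V) r = 1 := by
    refine eq_of_smul_gen hg ?_
    rw [← OmegaSh.pullSect_smul, ← hr, hh₁.2, hh.2, one_smul]
  have h2 : bS πX πB τ.i' rfl (le_refl U) (le_refl (τ.i' ⁻¹ᵁ V)) (r - 1) = 0 := by
    refine (appLE_eq_zero_congr (jm πX πB τ) (bT_preimage_Oc πX πB τ.i' rfl U V) (r - 1)).2 ?_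
    rw [map_sub, map_one, ← Scheme.Hom.app_eq_appLE, h1, sub_self]
  obtain ⟨c, hc⟩ := (bS_eq_zero_iff πX πB τ.i' rfl hU hV.aff hV.aff' hf (τ.e V) hV.ker' _).1 h2
  exact ⟨c, by rw [hc, add_sub_cancel, ← hr]⟩

include hV in
theorem IsLift.add {h : Γ(L, Oc πX πB U V)} (hh : IsLift πX πB τ L g' U V h)
    (c : Γ(pullback πX πB, Oc πX πB U V)) :
    IsLift πX πB τ L g' U V ((1 + sndS πX πB U V (τ.e V) * c) • h) := by
  have hu : IsUnit (1 + sndS πX πB U V (τ.e V) * c) :=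
    IsUnit.of_mul_eq_one (1 - sndS πX πB U V (τ.e V) * c) (by
      linear_combination (-c * c) * sndS_e_sq πX πB τ (U := U) hV)
  refine ⟨hh.1.smul hu, ?_⟩
  have h1 : (jm πX πB τ).app (Oc πX πB U V) (sndS πX πB U V (τ.e V)) = 0 := by
    rw [Scheme.Hom.app_eq_appLE]
    refine (appLE_eq_zero_congr (jm πX πB τ) (bT_preimage_Oc πX πB τ.i' rfl U V) _).1 ?_
    refine (bS_sndS πX πB τ.i' rfl (le_refl U) (le_refl _) (τ.e V)).trans ?_
    rw [(hV.ker' (τ.e V)).2 ⟨1, mul_one _⟩, map_zero]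
  rw [OmegaSh.pullSect_smul, map_add, map_one, map_mul, h1, zero_mul, add_zero, one_smul, hh.2]

open Classical in
/-- The difference of two lifts. -/
def delta (h h₁ : Γ(L, Oc πX πB U V)) : Γ(pullback πX (τ.i0 ≫ πB), Oc πX (τ.i0 ≫ πB) U (τ.i0 ⁻¹ᵁ V)) :=
  if H : ∃ c, h₁ = (1 + sndS πX πB U V (τ.e V) * c) • h then
    bS πX πB τ.i0 rfl (le_refl U) (le_refl _) H.choose else 0

include hU hV hf in
theorem delta_eq {h h₁ : Γ(L, Oc πX πB U V)} (hh : IsGen L h) {c : Γ(pullback πX πB, Oc πX πB U V)}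
    (hc : h₁ = (1 + sndS πX πB U V (τ.e V) * c) • h) :
    delta πX πB τ L h h₁ = bS πX πB τ.i0 rfl (le_refl U) (le_refl _) c := by
  have H : ∃ c, h₁ = (1 + sndS πX πB U V (τ.e V) * c) • h := ⟨c, hc⟩
  rw [delta, dif_pos H]
  exact bS_eq_of_mul_eq πX πB τ hU hV hf
    (add_left_cancel (eq_of_smul_gen hh (H.choose_spec.symm.trans hc)))

include hU hV hf in
theorem delta_add {h h₁ h₂ : Γ(L, Oc πX πB U V)} (hh : IsLift πX πB τ L g' U V h)
    (hh₁ : IsLift πX πB τ L g' U V h₁) (hh₂ : IsLift πX πB τ L g' U V h₂) :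
    delta πX πB τ L h h₂ = delta πX πB τ L h h₁ + delta πX πB τ L h₁ h₂ := by
  obtain ⟨c, hc⟩ := exists_rel πX πB τ L g' hU hV hf hh hh₁
  obtain ⟨d, hd⟩ := exists_rel πX πB τ L g' hU hV hf hh₁ hh₂
  rw [delta_eq πX πB τ L hU hV hf hh.1 hc, delta_eq πX πB τ L hU hV hf hh₁.1 hd, ← map_add]
  refine delta_eq πX πB τ L hU hV hf hh.1 ?_
  rw [hd, hc, smul_smul]
  congr 1
  linear_combination (c * d) * sndS_e_sq πX πB τ (U := U) hV

include hU hV hf in
theorem eq_of_delta_eq_zero {h h₁ : Γ(L, Oc πX πB U V)} (hh : IsLift πX πB τ L g' U V h)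
    (hh₁ : IsLift πX πB τ L g' U V h₁) (h0 : delta πX πB τ L h h₁ = 0) : h = h₁ := by
  obtain ⟨c, hc⟩ := exists_rel πX πB τ L g' hU hV hf hh hh₁
  rw [delta_eq πX πB τ L hU hV hf hh.1 hc] at h0
  rw [hc, (sndS_mul_eq_zero_iff πX πB τ.i0 rfl hU hV.aff hV.aff0 hf (τ.e V) hV.ker0 c).2 h0, add_zero, one_smul]

theorem res_rel {U' : X.Opens} {V' : B.Opens} (hU' : U' ≤ U) (hV' : V' ≤ V) {h h₁ : Γ(L, Oc πX πB U V)}
    {c : Γ(pullback πX πB, Oc πX πB U V)} (hc : h₁ = (1 + sndS πX πB U V (τ.e V) * c) • h) :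
    L.presheaf.map (homOfLE (Oc_mono πX πB hU' hV')).op h₁ =
      (1 + sndS πX πB U' V' (τ.e V') * resS πX πB hU' hV' c) •
        L.presheaf.map (homOfLE (Oc_mono πX πB hU' hV')).op h := by
  rw [hc, Scheme.Modules.map_smul]
  congr 1
  rw [← Triple.map_e τ hV', ← resS_sndS πX πB hU' hV']
  exact (map_add (resS πX πB hU' hV').hom _ _).trans (congrArg₂ (· + ·) (map_one _) (map_mul _ _ _))

include hU hV hf in
theorem delta_res {U' : X.Opens} {V' : B.Opens} (hU'' : IsAffineOpen U') (hV'' : Good τ V')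
    (hf' : FlatOn πX U') (hU' : U' ≤ U) (hV' : V' ≤ V) {h h₁ : Γ(L, Oc πX πB U V)}
    (hh : IsLift πX πB τ L g' U V h) (hh₁ : IsLift πX πB τ L g' U V h₁) :
    delta πX πB τ L (L.presheaf.map (homOfLE (Oc_mono πX πB hU' hV')).op h)
        (L.presheaf.map (homOfLE (Oc_mono πX πB hU' hV')).op h₁) =
      resS πX (τ.i0 ≫ πB) hU' (τ.i0.preimage_mono hV') (delta πX πB τ L h h₁) := by
  obtain ⟨c, hc⟩ := exists_rel πX πB τ L g' hU hV hf hh hh₁
  rw [delta_eq πX πB τ L hU hV hf hh.1 hc,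
    delta_eq πX πB τ L hU'' hV'' hf' (hh.1.res _) (res_rel πX πB τ L hU' hV' hc)]
  exact bS_resS πX πB τ.i0 rfl hU' hV' _ _ _ c

end Groth.Agent.H12Pic.Cube
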