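import Groth.Agent.H12Pic.Cube.Triple

/-!
# Functionals on cocycles of boxes
-/

set_option autoImplicit false
set_option linter.style.haveILetI false
set_option linter.unusedSectionVars false

noncomputable section

universe u

open CategoryTheory CategoryTheory.Limits AlgebraicGeometry TopologicalSpace Opposite

namespace Groth.Agent.H12Pic.Cube

open Groth.Agent.LeadFF

variable {A : Type u} [CommRing A] {X : Scheme.{u}} (πX : X ⟶ Spec (CommRingCat.of A)) (I : Ideal A)

/-- The ideal kills the functions of a scheme over the base. -/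
def Kills {B : Scheme.{u}} (πB : B ⟶ Spec (CommRingCat.of A)) : Prop := ∀ a ∈ I, glob πB a = 0

variable {I} {B : Scheme.{u}} {πB : B ⟶ Spec (CommRingCat.of A)}

/-- Scalars of the quotient on sections. -/
def Kills.sκ (h : Kills I πB) (V : B.Opens) : A ⧸ I →+* Γ(B, V) :=
  Ideal.Quotient.lift I (scal πB V) fun a ha =>
    (congrArg (B.presheaf.map (homOfLE (le_top : V ≤ ⊤)).op) (h a ha)).trans (map_zero _)

theorem Kills.sκ_mk (h : Kills I πB) (V : B.Opens) (a : A) : h.sκ V (Ideal.Quotient.mk I a) = scal πB V a :=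
  rfl

theorem Kills.scal_eq_zero (h : Kills I πB) (V : B.Opens) {a : A} (ha : a ∈ I) : scal πB V a = 0 := by
  rw [← h.sκ_mk, Ideal.Quotient.eq_zero_iff_mem.2 ha, map_zero]

theorem Kills.comp {B' : Scheme.{u}} {πB' : B' ⟶ Spec (CommRingCat.of A)} (h : Kills I πB) (b : B' ⟶ B)
    (hb : b ≫ πB = πB') : Kills I πB' := fun a ha => by
  subst hb
  show b.appTop (glob πB a) = 0
  rw [h a ha, map_zero]

theorem Kills.appLE_sκ {B' : Scheme.{u}} {πB' : B' ⟶ Spec (CommRingCat.of A)} (h : Kills I πB)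
    (h' : Kills I πB') (b : B' ⟶ B) (hb : b ≫ πB = πB') {V : B.Opens} {V' : B'.Opens} (hV : V' ≤ b ⁻¹ᵁ V)
    (t : A ⧸ I) : b.appLE V V' hV (h.sκ V t) = h'.sκ V' t := by
  obtain ⟨a, rfl⟩ := Ideal.Quotient.mk_surjective t
  exact appLE_scal πB b V V' hV hb a

variable (I) {ι : Type u} [Fintype ι] (U : ι → X.Opens)

/-- Restriction of functions on one member of the cover to an overlap. -/
def resL (i j : ι) : Γ(X, U i) ⟶ Γ(X, U i ⊓ U j) := X.presheaf.map (homOfLE inf_le_left).op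

/-- Restriction of functions on the other member of the cover to an overlap. -/
def resR (i j : ι) : Γ(X, U j) ⟶ Γ(X, U i ⊓ U j) := X.presheaf.map (homOfLE inf_le_right).op

/-- A functional on cochains that kills coboundaries. -/
structure Fnl where
  ψ : ∀ i j, Γ(X, U i ⊓ U j) →+ A ⧸ I
  semilin : ∀ i j a m, ψ i j (scal πX _ a * m) = Ideal.Quotient.mk I a * ψ i j m
  cocycle : ∀ m : (∀ i, Γ(X, U i)), ∑ i, ∑ j, ψ i j (resR U i j (m j) - resL U i j (m i)) = 0

variable {I U} (ψ : Fnl πX I U) (hU₂ : ∀ i j, IsAffineOpen (U i ⊓ U j)) (hB : Kills I πB) {V : B.Opens}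
  (hV : IsAffineOpen V)

include hU₂ hV in
theorem exists_phi (i j : ι) : ∃ Φ : Γ(pullback πX πB, Oc πX πB (U i ⊓ U j) V) →+ Γ(B, V),
    ∀ m r, Φ (fstS πX πB _ V m * sndS πX πB _ V r) = hB.sκ V (ψ.ψ i j m) * r :=
  exists_extend πX πB (hU₂ i j) hV (RingHom.id _) ((hB.sκ V).toAddMonoidHom.comp (ψ.ψ i j)) fun a m => by
    show hB.sκ V (ψ.ψ i j _) = scal πB V a * hB.sκ V (ψ.ψ i j m)
    rw [ψ.semilin, map_mul, Kills.sκ_mk]

/-- The extension of a functional to a box. -/
def phi (i j : ι) : Γ(pullback πX πB, Oc πX πB (U i ⊓ U j) V) →+ Γ(B, V) :=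
  (exists_phi πX ψ hU₂ hB hV i j).choose

theorem phi_tmul (i j : ι) (m : Γ(X, U i ⊓ U j)) (r : Γ(B, V)) :
    phi πX ψ hU₂ hB hV i j (fstS πX πB _ V m * sndS πX πB _ V r) = hB.sκ V (ψ.ψ i j m) * r :=
  (exists_phi πX ψ hU₂ hB hV i j).choose_spec m r

theorem phi_bS {B' : Scheme.{u}} {πB' : B' ⟶ Spec (CommRingCat.of A)} (hB' : Kills I πB') (b : B' ⟶ B)
    (hb : b ≫ πB = πB') {V' : B'.Opens} (hV' : IsAffineOpen V') (hle : V' ≤ b ⁻¹ᵁ V) (i j : ι)
    (z : Γ(pullback πX πB, Oc πX πB (U i ⊓ U j) V)) :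
    phi πX ψ hU₂ hB' hV' i j (bS πX πB b hb (le_refl _) hle z) =
      b.appLE V V' hle (phi πX ψ hU₂ hB hV i j z) := by
  induction z using induction_oc πX πB (hU₂ i j) hV with
  | h0 => simp
  | hadd x y hx hy => simp only [map_add, hx, hy]
  | hmul m r =>
    rw [map_mul, bS_fstS, bS_sndS, phi_tmul, show (homOfLE (le_refl (U i ⊓ U j))).op = 𝟙 _ from rfl,
      CategoryTheory.Functor.map_id]
    rw [phi_tmul, map_mul, hB.appLE_sκ hB' b hb]
    rfl

theorem phi_resS {V' : B.Opens} (hV' : IsAffineOpen V') (hle : V' ≤ V) (i j : ι)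
    (z : Γ(pullback πX πB, Oc πX πB (U i ⊓ U j) V)) :
    phi πX ψ hU₂ hB hV' i j (resS πX πB (le_refl _) hle z) =
      B.presheaf.map (homOfLE hle).op (phi πX ψ hU₂ hB hV i j z) := by
  induction z using induction_oc πX πB (hU₂ i j) hV with
  | h0 => simp
  | hadd x y hx hy => simp only [map_add, hx, hy]
  | hmul m r =>
    rw [map_mul, resS_fstS, resS_sndS, phi_tmul, show (homOfLE (le_refl (U i ⊓ U j))).op = 𝟙 _ from rfl,
      CategoryTheory.Functor.map_id]
    rw [phi_tmul, map_mul]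
    congr 1
    show hB.sκ V' (ψ.ψ i j m) = _
    obtain ⟨a, ha⟩ := Ideal.Quotient.mk_surjective (ψ.ψ i j m)
    rw [← ha, Kills.sκ_mk, Kills.sκ_mk]
    exact (map_scal πB hle a).symm

/-- The total pairing with a cochain on boxes. -/
def phiSum (z : ∀ i j, Γ(pullback πX πB, Oc πX πB (U i ⊓ U j) V)) : Γ(B, V) :=
  ∑ i, ∑ j, phi πX ψ hU₂ hB hV i j (z i j)

variable (U πB V) in
/-- The coboundary of a family of functions on boxes. -/
def cb (a : ∀ i, Γ(pullback πX πB, Oc πX πB (U i) V)) (i j : ι) :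
    Γ(pullback πX πB, Oc πX πB (U i ⊓ U j) V) :=
  resS πX πB inf_le_right le_rfl (a j) - resS πX πB inf_le_left le_rfl (a i)

theorem resS_tmul {U₁ U₂ : X.Opens} (h : U₂ ≤ U₁) (m : Γ(X, U₁)) (r : Γ(B, V)) :
    resS πX πB h (le_refl V) (fstS πX πB U₁ V m * sndS πX πB U₁ V r) =
      fstS πX πB U₂ V (X.presheaf.map (homOfLE h).op m) * sndS πX πB U₂ V r := by
  rw [map_mul, resS_fstS, resS_sndS]
  congr 2
  rw [show (homOfLE (le_refl V)).op = 𝟙 _ from rfl, CategoryTheory.Functor.map_id]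
  rfl

theorem phiSum_cb (hU : ∀ i, IsAffineOpen (U i)) (a : ∀ i, Γ(pullback πX πB, Oc πX πB (U i) V)) :
    phiSum πX ψ hU₂ hB hV (cb πX πB U V a) = 0 := by
  classical
  let F : (∀ i, Γ(pullback πX πB, Oc πX πB (U i) V)) →+ Γ(B, V) :=
    { toFun := fun a => phiSum πX ψ hU₂ hB hV (cb πX πB U V a)
      map_zero' := by simp [phiSum, cb]
      map_add' := fun a b => by
        simp only [phiSum, cb, Pi.add_apply, map_add, map_sub, ← Finset.sum_add_distrib]
        refine Finset.sum_congr rfl fun i _ => Finset.sum_congr rfl fun j _ => ?_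
        abel }
  show F a = 0
  rw [← Finset.univ_sum_single a, map_sum]
  refine Finset.sum_eq_zero fun k _ => ?_
  generalize a k = z
  induction z using induction_oc πX πB (hU k) hV with
  | h0 => rw [Pi.single_zero, map_zero]
  | hadd x y hx hy => rw [Pi.single_add, map_add, hx, hy, add_zero]
  | hmul m r =>
    let mk : ∀ i, Γ(X, U i) := Pi.single k m
    have hs : ∀ i, (Pi.single k (fstS πX πB (U k) V m * sndS πX πB (U k) V r) :
        ∀ i, Γ(pullback πX πB, Oc πX πB (U i) V)) i = fstS πX πB (U i) V (mk i) * sndS πX πB (U i) V r := by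
      intro i
      rcases eq_or_ne i k with rfl | hne
      · simp [mk]
      · simp [mk, Pi.single_eq_of_ne hne]
    show phiSum πX ψ hU₂ hB hV (cb πX πB U V _) = 0
    have hc : ∀ i j, cb πX πB U V (Pi.single k (fstS πX πB (U k) V m * sndS πX πB (U k) V r)) i j =
        fstS πX πB _ V (resR U i j (mk j) - resL U i j (mk i)) * sndS πX πB _ V r := by
      intro i j
      rw [cb, hs, hs, resS_tmul, resS_tmul, map_sub, sub_mul]
      rfl
    simp only [phiSum, hc, phi_tmul, ← Finset.sum_mul, ← map_sum]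
    rw [ψ.cocycle, map_zero, zero_mul]

end Groth.Agent.H12Pic.Cube
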