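import Groth.Agent.H12Pic.Cube.Lift
import Groth.Agent.H12Pic.Cube.Phi

/-!
# The obstruction to extending a trivialisation
-/

set_option autoImplicit false
set_option linter.style.haveILetI false
set_option linter.unusedSectionVars false

noncomputable section

universe u

open CategoryTheory CategoryTheory.Limits AlgebraicGeometry TopologicalSpace Opposite

namespace Groth.Agent.H12Pic.Cube

open Groth.Agent.LeadFF Groth.Agent.H11Tilde

variable {A : Type u} [CommRing A] {X : Scheme.{u}} (πX : X ⟶ Spec (CommRingCat.of A))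

/-- A finite affine cover with affine overlaps on which functions are free over the base. -/
structure GoodCover {ι : Type u} (U : ι → X.Opens) : Prop where
  aff : ∀ i, IsAffineOpen (U i)
  aff₂ : ∀ i j, IsAffineOpen (U i ⊓ U j)
  flat : ∀ i, FlatOn πX (U i)
  flat₂ : ∀ i j, FlatOn πX (U i ⊓ U j)
  cover : ∀ x : X, ∃ i, x ∈ U i

variable {B : Scheme.{u}} (πB : B ⟶ Spec (CommRingCat.of A)) (τ : Triple B)
  (L : (pullback πX πB).Modules) (g' : Γ((Scheme.Modules.pullback (jm πX πB τ)).obj L, ⊤))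
  {ι : Type u} (U : ι → X.Opens) {V : B.Opens}

/-- The differences of lifts on overlaps. -/
def c0 (h : ∀ i, Γ(L, Oc πX πB (U i) V)) (i j : ι) :
    Γ(pullback πX (τ.i0 ≫ πB), Oc πX (τ.i0 ≫ πB) (U i ⊓ U j) (τ.i0 ⁻¹ᵁ V)) :=
  delta πX πB τ L (L.presheaf.map (homOfLE (Oc_mono πX πB inf_le_left (le_refl V))).op (h i))
    (L.presheaf.map (homOfLE (Oc_mono πX πB inf_le_right (le_refl V))).op (h j))

variable {πX U} (hU : GoodCover πX U) (hV : Good τ V)

include hU hV in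
theorem c0_change {h h' : ∀ i, Γ(L, Oc πX πB (U i) V)} (hh : ∀ i, IsLift πX πB τ L g' (U i) V (h i))
    (hh' : ∀ i, IsLift πX πB τ L g' (U i) V (h' i)) (i j : ι) :
    c0 πX πB τ L U h' i j = c0 πX πB τ L U h i j +
      cb πX (τ.i0 ≫ πB) U (τ.i0 ⁻¹ᵁ V) (fun k => delta πX πB τ L (h k) (h' k)) i j := by
  have l : ∀ {g : ∀ i, Γ(L, Oc πX πB (U i) V)}, (∀ i, IsLift πX πB τ L g' (U i) V (g i)) →
      IsLift πX πB τ L g' (U i ⊓ U j) V
        (L.presheaf.map (homOfLE (Oc_mono πX πB inf_le_left (le_refl V))).op (g i)) :=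
    fun hg => (hg i).res πX πB τ L g' inf_le_left le_rfl
  have r : ∀ {g : ∀ i, Γ(L, Oc πX πB (U i) V)}, (∀ i, IsLift πX πB τ L g' (U i) V (g i)) →
      IsLift πX πB τ L g' (U i ⊓ U j) V
        (L.presheaf.map (homOfLE (Oc_mono πX πB inf_le_right (le_refl V))).op (g j)) :=
    fun hg => (hg j).res πX πB τ L g' inf_le_right le_rfl
  have hl := delta_res πX πB τ L g' (hU.aff i) hV (hU.flat i) (hU.aff₂ i j) hV (hU.flat₂ i j)
    inf_le_left le_rfl (hh i) (hh' i)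
  have hr := delta_res πX πB τ L g' (hU.aff j) hV (hU.flat j) (hU.aff₂ i j) hV (hU.flat₂ i j)
    inf_le_right le_rfl (hh j) (hh' j)
  have a1 := delta_add πX πB τ L g' (hU.aff₂ i j) hV (hU.flat₂ i j) (l hh) (r hh) (r hh')
  have a2 := delta_add πX πB τ L g' (hU.aff₂ i j) hV (hU.flat₂ i j) (l hh) (l hh') (r hh')
  rw [a1, hl, hr] at a2
  rw [c0, c0, cb]
  linear_combination -a2

variable [Fintype ι] {I : Ideal A} (ψ : Fnl πX I U) (hB : Kills I (τ.i0 ≫ πB))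

/-- The value of a functional on the differences of lifts. -/
def jv (h : ∀ i, Γ(L, Oc πX πB (U i) V)) : Γ(τ.B0, τ.i0 ⁻¹ᵁ V) :=
  phiSum πX ψ hU.aff₂ hB hV.aff0 (c0 πX πB τ L U h)

theorem jv_indep {h h' : ∀ i, Γ(L, Oc πX πB (U i) V)} (hh : ∀ i, IsLift πX πB τ L g' (U i) V (h i))
    (hh' : ∀ i, IsLift πX πB τ L g' (U i) V (h' i)) :
    jv πB τ L hU hV ψ hB h' = jv πB τ L hU hV ψ hB h := by
  have := phiSum_cb πX ψ hU.aff₂ hB hV.aff0 hU.aff fun k => delta πX πB τ L (h k) (h' k)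
  simp only [jv, phiSum, c0_change πB τ L g' hU hV hh hh', map_add, Finset.sum_add_distrib] at this ⊢
  rw [this, add_zero]

variable [Surjective τ.i'] (hL : PicF.IsInvertible L)
  (hg : IsGen ((Scheme.Modules.pullback (jm πX πB τ)).obj L) g')

/-- The obstruction over a good open. -/
def obs : Γ(τ.B0, τ.i0 ⁻¹ᵁ V) :=
  jv πB τ L hU hV ψ hB fun i => (exists_isLift πX πB τ L g' (hU.aff i) hV hL hg).choose

theorem jv_eq_obs {h : ∀ i, Γ(L, Oc πX πB (U i) V)} (hh : ∀ i, IsLift πX πB τ L g' (U i) V (h i)) :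
    jv πB τ L hU hV ψ hB h = obs πB τ L g' hU hV ψ hB hL hg :=
  jv_indep πB τ L g' hU hV ψ hB
    (fun i => (exists_isLift πX πB τ L g' (hU.aff i) hV hL hg).choose_spec) hh

theorem map_obs {V' : B.Opens} (hV' : Good τ V') (hle : V' ≤ V) :
    τ.B0.presheaf.map (homOfLE (τ.i0.preimage_mono hle)).op (obs πB τ L g' hU hV ψ hB hL hg) =
      obs πB τ L g' hU hV' ψ hB hL hg := by
  let h := fun i => (exists_isLift πX πB τ L g' (hU.aff i) hV hL hg).choose
  have hh : ∀ i, IsLift πX πB τ L g' (U i) V (h i) :=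
    fun i => (exists_isLift πX πB τ L g' (hU.aff i) hV hL hg).choose_spec
  rw [← jv_eq_obs πB τ L g' hU hV' ψ hB hL hg fun i => (hh i).res πX πB τ L g' (le_refl (U i)) hle]
  show τ.B0.presheaf.map _ (phiSum πX ψ hU.aff₂ hB hV.aff0 (c0 πX πB τ L U h)) = _
  simp only [jv, phiSum, map_sum]
  refine Finset.sum_congr rfl fun i _ => Finset.sum_congr rfl fun j _ => ?_
  rw [← phi_resS πX ψ hU.aff₂ hB hV.aff0 hV'.aff0]
  congr 1
  rw [c0, c0, ← delta_res πX πB τ L g' (hU.aff₂ i j) hV (hU.flat₂ i j) (hU.aff₂ i j) hV' (hU.flat₂ i j)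
    le_rfl hle ((hh i).res πX πB τ L g' inf_le_left le_rfl) ((hh j).res πX πB τ L g' inf_le_right le_rfl),
    H10Coh.mres_mres, H10Coh.mres_mres, H10Coh.mres_mres, H10Coh.mres_mres]

theorem exists_glob_obs (P : B.Opens → Prop) (hP : ∀ V, P V → Good τ V) (hcov : ∀ x : B, ∃ V, P V ∧ x ∈ V)
    (hinter : ∀ V V' : B.Opens, P V → P V' → ∀ x : B, x ∈ V → x ∈ V' → ∃ W, P W ∧ x ∈ W ∧ W ≤ V ∧ W ≤ V') :
    ∃ j : Γ(τ.B0, ⊤), ∀ V (hV : P V), τ.B0.presheaf.map (homOfLE (le_top : τ.i0 ⁻¹ᵁ V ≤ ⊤)).op j =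
      obs πB τ L g' hU (hP V hV) ψ hB hL hg := by
  let O : {V // P V} → τ.B0.Opens := fun V => τ.i0 ⁻¹ᵁ V.1
  obtain ⟨j, hj, -⟩ := TopCat.Sheaf.existsUnique_gluing' ⟨τ.B0.presheaf, τ.B0.sheaf.property⟩ O ⊤
    (fun _ => homOfLE le_top) (fun x _ => by
      obtain ⟨V, hV, hx⟩ := hcov (τ.i0 x)
      exact Opens.mem_iSup.2 ⟨⟨V, hV⟩, hx⟩)
    (fun V => obs πB τ L g' hU (hP V.1 V.2) ψ hB hL hg) (fun V V' => by
      refine TopCat.Presheaf.section_ext ⟨τ.B0.presheaf, τ.B0.sheaf.property⟩ _ _ _ fun x hx => ?_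
      obtain ⟨W, hW, hxW, hWV, hWV'⟩ := hinter V.1 V'.1 V.2 V'.2 (τ.i0 x) hx.1 hx.2
      have h1 := map_obs πB τ L g' hU (hP V.1 V.2) ψ hB hL hg (hP W hW) hWV
      have h2 := map_obs πB τ L g' hU (hP V'.1 V'.2) ψ hB hL hg (hP W hW) hWV'
      erw [TopCat.Presheaf.germ_res_apply, TopCat.Presheaf.germ_res_apply]
      rw [← TopCat.Presheaf.germ_res_apply τ.B0.presheaf (homOfLE (τ.i0.preimage_mono hWV)) x hxW,
        ← TopCat.Presheaf.germ_res_apply τ.B0.presheaf (homOfLE (τ.i0.preimage_mono hWV')) x hxW]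
      exact congrArg _ (h1.trans h2.symm))
  exact ⟨j, fun V hV => hj ⟨V, hV⟩⟩

end Groth.Agent.H12Pic.Cube
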