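import Groth.Agent.H12Pic.Cube.Obs

/-!
# The obstruction vanishes where the bundle is trivial
-/

set_option autoImplicit false
set_option linter.style.haveILetI false
set_option linter.unusedSectionVars false

noncomputable section

universe u

open CategoryTheory CategoryTheory.Limits AlgebraicGeometry TopologicalSpace Opposite

namespace Groth.Agent.H12Pic.Cube

open Groth.Agent.LeadFF Groth.Agent.H11Tilde

theorem res_eq_res {T : Scheme.{u}} {W₁ W₂ W₁₂ W : T.Opens} (a : Γ(T, W₁)) (b : Γ(T, W₂)) (h₁ : W₁₂ ≤ W₁)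
    (h₂ : W₁₂ ≤ W₂) (h : W ≤ W₁₂) (e : T.presheaf.map (homOfLE h₁).op a = T.presheaf.map (homOfLE h₂).op b) :
    T.presheaf.map (homOfLE (h.trans h₁)).op a = T.presheaf.map (homOfLE (h.trans h₂)).op b := by
  have := congrArg (T.presheaf.map (homOfLE h).op) e
  rwa [← ConcreteCategory.comp_apply, ← ConcreteCategory.comp_apply, ← Functor.map_comp,
    ← Functor.map_comp] at this

variable {A : Type u} [CommRing A] {X : Scheme.{u}} (πX : X ⟶ Spec (CommRingCat.of A))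
  {B S : Scheme.{u}} (πB : B ⟶ Spec (CommRingCat.of A)) (τ : Triple B)

/-- A triple mapping to another one. -/
structure TMap (σ : Triple S) where
  β : S ⟶ B
  β' : σ.B' ⟶ τ.B'
  β0 : σ.B0 ⟶ τ.B0
  w' : β' ≫ τ.i' = σ.i' ≫ β
  w0 : β0 ≫ τ.i0 = σ.i0 ≫ β
  hε : β.appTop τ.ε = σ.ε

variable {πX} {τ} {σ : Triple S} (m : TMap τ σ) (hS : Good σ ⊤)

theorem TMap.hb' : m.β' ≫ (τ.i' ≫ πB) = σ.i' ≫ m.β ≫ πB := by rw [← Category.assoc, m.w', Category.assoc]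

theorem TMap.hb0 : m.β0 ≫ (τ.i0 ≫ πB) = σ.i0 ≫ m.β ≫ πB := by rw [← Category.assoc, m.w0, Category.assoc]

theorem TMap.le0 {V : B.Opens} (hV : (⊤ : S.Opens) ≤ m.β ⁻¹ᵁ V) :
    σ.i0 ⁻¹ᵁ (⊤ : S.Opens) ≤ m.β0 ⁻¹ᵁ (τ.i0 ⁻¹ᵁ V) := by
  intro x _
  show (m.β0 ≫ τ.i0) x ∈ V
  rw [m.w0]
  exact hV (Set.mem_univ _)

theorem TMap.appLE_e {V : B.Opens} (hV : (⊤ : S.Opens) ≤ m.β ⁻¹ᵁ V) : m.β.appLE V ⊤ hV (τ.e V) = σ.e ⊤ := by
  have h : B.presheaf.map (homOfLE (le_top : V ≤ ⊤)).op ≫ m.β.appLE V ⊤ hV =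
      m.β.appTop ≫ S.presheaf.map (homOfLE (le_top : (⊤ : S.Opens) ≤ ⊤)).op := by
    rw [Scheme.Hom.map_appLE]
    rfl
  refine (ConcreteCategory.congr_hom h τ.ε).trans ?_
  exact congrArg _ m.hε

theorem TMap.bS0_comm {U : X.Opens} {V : B.Opens} (hV : (⊤ : S.Opens) ≤ m.β ⁻¹ᵁ V)
    (z : Γ(pullback πX πB, Oc πX πB U V)) :
    bS πX (τ.i0 ≫ πB) m.β0 (m.hb0 πB) (le_refl U) (m.le0 hV) (bS πX πB τ.i0 rfl (le_refl U) (le_refl _) z) =
      bS πX (m.β ≫ πB) σ.i0 rfl (le_refl U) (le_refl _) (bS πX πB m.β rfl (le_refl U) hV z) := by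
  have hb : bT πX (τ.i0 ≫ πB) m.β0 (m.hb0 πB) ≫ bT πX πB τ.i0 rfl =
      bT πX (m.β ≫ πB) σ.i0 rfl ≫ bT πX πB m.β rfl := by
    apply pullback.hom_ext
    · rw [Category.assoc, Category.assoc, bT_fst, bT_fst, bT_fst, bT_fst]
    · refine (Category.assoc _ _ _).trans ?_
      refine (congrArg (_ ≫ ·) (bT_snd πX πB τ.i0 rfl)).trans ?_
      refine (Category.assoc _ _ _).symm.trans ?_
      refine (congrArg (· ≫ τ.i0) (bT_snd πX (τ.i0 ≫ πB) m.β0 (m.hb0 πB))).trans ?_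
      refine ((Category.assoc _ _ _).trans (congrArg (_ ≫ ·) m.w0)).trans ?_
      refine Eq.trans ?_ (Category.assoc _ _ _).symm
      refine Eq.trans ?_ (congrArg (_ ≫ ·) (bT_snd πX πB m.β rfl)).symm
      refine Eq.trans ?_ (Category.assoc _ _ _)
      refine Eq.trans ?_ (congrArg (· ≫ m.β) (bT_snd πX (m.β ≫ πB) σ.i0 rfl)).symm
      exact (Category.assoc _ _ _).symm
  have h : bS πX πB τ.i0 rfl (le_refl U) (le_refl _) ≫ bS πX (τ.i0 ≫ πB) m.β0 (m.hb0 πB) (le_refl U) (m.le0 hV) =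
      bS πX πB m.β rfl (le_refl U) hV ≫ bS πX (m.β ≫ πB) σ.i0 rfl (le_refl U) (le_refl (σ.i0 ⁻¹ᵁ (⊤ : S.Opens))) := by
    rw [bS, bS, bS, bS, Scheme.Hom.appLE_comp_appLE, Scheme.Hom.appLE_comp_appLE]
    simp only [hb]
  exact ConcreteCategory.congr_hom h z

variable (L : (pullback πX πB).Modules) (g' : Γ((Scheme.Modules.pullback (jm πX πB τ)).obj L, ⊤))
  {ι : Type u} [Fintype ι] {U : ι → X.Opens} (hU : GoodCover πX U) {I : Ideal A} (ψ : Fnl πX I U)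
  (hB : Kills I (τ.i0 ≫ πB)) [Surjective τ.i'] (hL : PicF.IsInvertible L)
  (hg : IsGen ((Scheme.Modules.pullback (jm πX πB τ)).obj L) g')

include hS in
/-- Where the pulled back bundle is trivial the obstruction vanishes. -/
theorem appLE_obs_eq_zero (gσ : Γ((Scheme.Modules.pullback (bT πX πB m.β rfl)).obj L, ⊤))
    (hgσ : IsGen ((Scheme.Modules.pullback (bT πX πB m.β rfl)).obj L) gσ)
    (hΓ : Function.Bijective ((pullback.snd πX (σ.i' ≫ m.β ≫ πB)).app ⊤))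
    {V : B.Opens} (hV : Good τ V) (hmV : (⊤ : S.Opens) ≤ m.β ⁻¹ᵁ V) :
    m.β0.appLE (τ.i0 ⁻¹ᵁ V) (σ.i0 ⁻¹ᵁ ⊤) (m.le0 hmV) (obs πB τ L g' hU hV ψ hB hL hg) = 0 := by
  let πS := m.β ≫ πB
  let q := bT πX πB m.β (rfl : m.β ≫ πB = πS)
  let M := (Scheme.Modules.pullback q).obj L
  let e := fun k => sndS πX πS k ⊤ (σ.e ⊤)
  let h := fun i => (exists_isLift πX πB τ L g' (hU.aff i) hV hL hg).choose
  have hh : ∀ i, IsLift πX πB τ L g' (U i) V (h i) :=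
    fun i => (exists_isLift πX πB τ L g' (hU.aff i) hV hL hg).choose_spec
  have hle : ∀ W : X.Opens, Oc πX πS W ⊤ ≤ q ⁻¹ᵁ Oc πX πB W V :=
    fun W => Oc_le_preimage πX πB m.β rfl (le_refl W) hmV
  let hp := fun i => M.presheaf.map (homOfLE (hle (U i))).op (OmegaSh.pullSect q L _ (h i))
  have hgen : ∀ i, IsGen M (hp i) := fun i => (IsGen.pullSect q (hh i).1).res _
  let gi := fun W : X.Opens => M.presheaf.map (homOfLE (le_top : Oc πX πS W ⊤ ≤ ⊤)).op gσ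
  choose v hv using fun i => H11Ample.exists_coeff (hgσ.res (le_top : Oc πX πS (U i) ⊤ ≤ ⊤)) (hp i)
  choose w hw using fun i => H11Ample.exists_coeff (hgen i) (gi (U i))
  have hvu : ∀ i, IsUnit (v i) := fun i => by
    refine IsUnit.of_mul_eq_one (w i) (eq_of_smul_gen (hgen i) ?_)
    have e1 : hp i = v i • gi (U i) := hv i
    have e2 : gi (U i) = w i • hp i := hw i
    rw [one_smul, mul_smul, ← e2, ← e1]
  have hc : ∀ i j, ∃ c, L.presheaf.map (homOfLE (Oc_mono πX πB inf_le_right (le_refl V))).op (h j) =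
      (1 + sndS πX πB (U i ⊓ U j) V (τ.e V) * c) •
        L.presheaf.map (homOfLE (Oc_mono πX πB inf_le_left (le_refl V))).op (h i) :=
    fun i j => exists_rel πX πB τ L g' (hU.aff₂ i j) hV (hU.flat₂ i j)
      ((hh i).res πX πB τ L g' inf_le_left le_rfl) ((hh j).res πX πB τ L g' inf_le_right le_rfl)
  choose c hc using hc
  let cσ := fun i j => bS πX πB m.β (rfl : m.β ≫ πB = πS) (le_refl (U i ⊓ U j)) hmV (c i j)
  have heq : ∀ i j, resS πX πS inf_le_right le_rfl (v j) =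
      (1 + e (U i ⊓ U j) * cσ i j) * resS πX πS inf_le_left le_rfl (v i) := by
    intro i j
    refine eq_of_smul_gen (hgσ.res (le_top : Oc πX πS (U i ⊓ U j) ⊤ ≤ ⊤)) ?_
    have h1 : ∀ (k : ι) (hk : U i ⊓ U j ≤ U k), resS πX πS hk le_rfl (v k) • gi (U i ⊓ U j) =
        M.presheaf.map (homOfLE (hle _)).op
          (OmegaSh.pullSect q L _ (L.presheaf.map (homOfLE (Oc_mono πX πB hk (le_refl V))).op (h k))) := by
      intro k hk
      rw [pullSect_res, H10Coh.mres_mres]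
      have h2 : M.presheaf.map (homOfLE (Oc_mono πX πS hk (le_refl ⊤))).op (hp k) =
          M.presheaf.map (homOfLE (Oc_mono πX πS hk (le_refl ⊤))).op (v k • gi (U k)) := congrArg _ (hv k)
      rw [Scheme.Modules.map_smul, H10Coh.mres_mres] at h2
      simp only [gi, H10Coh.mres_mres] at h2
      exact h2.symm.trans (by simp only [hp, H10Coh.mres_mres])
    refine (h1 j inf_le_right).trans ?_
    rw [hc, OmegaSh.pullSect_smul, Scheme.Modules.map_smul]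
    refine (congrArg (_ • ·) (h1 i inf_le_left).symm).trans ?_
    rw [smul_smul]
    congr 1
    have hb : (q.app (Oc πX πB (U i ⊓ U j) V) ≫ (pullback πX πS).presheaf.map (homOfLE (hle _)).op) =
        bS πX πB m.β rfl (le_refl (U i ⊓ U j)) hmV := rfl
    rw [← ConcreteCategory.comp_apply, hb, map_add, map_one, map_mul, bS_sndS, m.appLE_e hmV]
  -- the trivialisation modulo the parameter is constant
  let πS' := σ.i' ≫ πS
  let v' := fun i => bS πX πS σ.i' (rfl : σ.i' ≫ πS = πS') (le_refl (U i)) (le_refl (σ.i' ⁻¹ᵁ (⊤ : S.Opens))) (v i)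
  have hcompat : ∀ i j, resS πX πS' (inf_le_left : U i ⊓ U j ≤ U i) le_rfl (v' i) =
      resS πX πS' (inf_le_right : U i ⊓ U j ≤ U j) le_rfl (v' j) := by
    intro i j
    simp only [v']
    rw [← bS_resS πX πS σ.i' rfl inf_le_left le_rfl le_rfl (le_refl _) (le_refl _),
      ← bS_resS πX πS σ.i' rfl inf_le_right le_rfl le_rfl (le_refl _) (le_refl _), heq, map_mul, map_add,
      map_one, map_mul]
    have he0 : bS πX πS σ.i' (rfl : σ.i' ≫ πS = πS') (le_refl (U i ⊓ U j)) (le_refl _) (e (U i ⊓ U j)) = 0 := by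
      rw [bS_sndS, (hS.ker' (σ.e ⊤)).2 ⟨1, mul_one _⟩, map_zero]
    rw [he0, zero_mul, add_zero, one_mul]
  obtain ⟨f, hf, -⟩ := TopCat.Sheaf.existsUnique_gluing'
    ⟨(pullback πX πS').presheaf, (pullback πX πS').sheaf.property⟩
    (fun i => Oc πX πS' (U i) (σ.i' ⁻¹ᵁ (⊤ : S.Opens))) ⊤ (fun _ => homOfLE le_top) (fun x _ => by
      obtain ⟨i, hi⟩ := hU.cover (pullback.fst πX πS' x)
      exact Opens.mem_iSup.2 ⟨i, ⟨hi, Set.mem_univ _⟩⟩) v'
    (fun i j => res_eq_res (v' i) (v' j) _ _ (Oc_inf πX πS' (U i) (U j) _).le (hcompat i j))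
  have hfu : IsUnit f := by
    refine (pullback πX πS').toRingedSpace.isUnit_of_isUnit_germ ⊤ f fun x _ => ?_
    obtain ⟨i, hi⟩ := hU.cover (pullback.fst πX πS' x)
    have hx : x ∈ Oc πX πS' (U i) (σ.i' ⁻¹ᵁ (⊤ : S.Opens)) := ⟨hi, Set.mem_univ _⟩
    have h1 := ((hvu i).map (bS πX πS σ.i' (rfl : σ.i' ≫ πS = πS') (le_refl (U i))
      (le_refl (σ.i' ⁻¹ᵁ (⊤ : S.Opens)))).hom).map ((pullback πX πS').presheaf.germ _ x hx).hom
    have h2 := TopCat.Presheaf.germ_res_apply (pullback πX πS').presheaf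
      (homOfLE (le_top : Oc πX πS' (U i) (σ.i' ⁻¹ᵁ (⊤ : S.Opens)) ≤ ⊤)) x hx f
    erw [hf i] at h2
    exact h2 ▸ h1
  obtain ⟨a', ha'⟩ := hΓ.2 f
  obtain ⟨b', hb'⟩ := hfu.exists_right_inv
  obtain ⟨a'', ha''⟩ := hΓ.2 b'
  have hau' : a' * a'' = 1 := hΓ.1 (by
    rw [map_mul, map_one, ha', ha'']
    exact hb')
  obtain ⟨a, ha⟩ := hS.surj' a'
  obtain ⟨b, hb⟩ := hS.surj' a''
  obtain ⟨r, hr⟩ := (hS.ker' (a * b - 1)).1 (by
    rw [map_sub, map_mul, map_one, ha, hb]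
    exact sub_eq_zero.2 hau')
  have hau : a * (b * (1 - σ.e ⊤ * r)) = 1 := by
    linear_combination (σ.e ⊤ * r - 1) * hr - r * r * hS.sq
  have hdiff : ∀ i, ∃ w, e (U i) * w = v i - sndS πX πS (U i) ⊤ a := fun i => by
    refine (bS_eq_zero_iff πX πS σ.i' rfl (hU.aff i) hS.aff hS.aff' (hU.flat i) (σ.e ⊤) hS.ker' _).1 ?_
    rw [map_sub, bS_sndS, ha, sub_eq_zero]
    refine (hf i).symm.trans ?_
    rw [← ha']
    rfl
  choose w' hw' using hdiff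
  let a0 := σ.i0.appLE ⊤ (σ.i0 ⁻¹ᵁ ⊤) le_rfl a
  let q0 := σ.i0.appLE ⊤ (σ.i0 ⁻¹ᵁ ⊤) le_rfl (b * (1 - σ.e ⊤ * r))
  let B0 := fun (W : X.Opens) => bS πX πS σ.i0 (rfl : σ.i0 ≫ πS = σ.i0 ≫ πS) (le_refl W)
    (le_refl (σ.i0 ⁻¹ᵁ (⊤ : S.Opens)))
  have hres : ∀ (W W' : X.Opens) (hW : W' ≤ W) (x : Γ(S, ⊤)),
      resS πX πS hW (le_refl ⊤) (sndS πX πS W ⊤ x) = sndS πX πS W' ⊤ x := fun W W' hW x => by
    rw [resS_sndS, show (homOfLE (le_refl (⊤ : S.Opens))).op = 𝟙 _ from rfl, CategoryTheory.Functor.map_id]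
    rfl
  have hkey : ∀ i j, B0 _ (cσ i j) = cb πX (σ.i0 ≫ πS) U (σ.i0 ⁻¹ᵁ ⊤)
      (fun k => sndS πX (σ.i0 ≫ πS) (U k) _ q0 * B0 _ (w' k)) i j := by
    intro i j
    let P := U i ⊓ U j
    have h1 : e P * (resS πX πS inf_le_right le_rfl (w' j) - resS πX πS inf_le_left le_rfl (w' i) -
        sndS πX πS P ⊤ a * cσ i j) = 0 := by
      have e1 := congrArg (resS πX πS (inf_le_right : P ≤ U j) (le_refl ⊤)) (hw' j)
      have e2 := congrArg (resS πX πS (inf_le_left : P ≤ U i) (le_refl ⊤)) (hw' i)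
      simp only [map_mul, map_sub, e, hres] at e1 e2
      have e3 := heq i j
      have sq : e P * e P = 0 := by
        simp only [e]
        rw [← map_mul, hS.sq, map_zero]
      simp only [e] at e3 sq ⊢
      linear_combination e1 - e2 + e3 - sndS πX πS P ⊤ (σ.e ⊤) * cσ i j * e2 +
        cσ i j * resS πX πS (inf_le_left : P ≤ U i) le_rfl (w' i) * sq
    have h2 := (sndS_mul_eq_zero_iff πX πS σ.i0 rfl (hU.aff₂ i j) hS.aff hS.aff0 (hU.flat₂ i j) (σ.e ⊤)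
      hS.ker0 _).1 h1
    rw [map_sub, map_sub, map_mul, bS_sndS] at h2
    have hq : a0 * q0 = 1 := by rw [← map_mul, hau, map_one]
    have hq' : sndS πX (σ.i0 ≫ πS) P _ a0 * sndS πX (σ.i0 ≫ πS) P (σ.i0 ⁻¹ᵁ ⊤) q0 = 1 := by
      rw [← map_mul, hq, map_one]
    simp only [cb, map_mul, resS_sndS]
    rw [show (homOfLE (le_refl (σ.i0 ⁻¹ᵁ (⊤ : S.Opens)))).op = 𝟙 _ from rfl, CategoryTheory.Functor.map_id]
    simp only [B0, ← bS_resS πX πS σ.i0 rfl inf_le_right (le_refl ⊤) le_rfl (le_refl _) (le_refl _),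
      ← bS_resS πX πS σ.i0 rfl inf_le_left (le_refl ⊤) le_rfl (le_refl _) (le_refl _)]
    linear_combination (- bS πX πS σ.i0 rfl (le_refl P) (le_refl _) (cσ i j)) * hq' -
      sndS πX (σ.i0 ≫ πS) P (σ.i0 ⁻¹ᵁ ⊤) q0 * h2
  have hK : Kills I (σ.i0 ≫ πS) := hB.comp m.β0 (m.hb0 πB)
  rw [← jv_eq_obs πB τ L g' hU hV ψ hB hL hg hh]
  show m.β0.appLE _ _ _ (phiSum πX ψ hU.aff₂ hB hV.aff0 (c0 πX πB τ L U h)) = 0
  refine Eq.trans ?_ (phiSum_cb πX ψ hU.aff₂ hK hS.aff0 hU.aff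
    (fun k => sndS πX (σ.i0 ≫ πS) (U k) _ q0 * B0 _ (w' k)))
  simp only [phiSum, map_sum]
  refine Finset.sum_congr rfl fun i _ => Finset.sum_congr rfl fun j _ => ?_
  rw [← phi_bS πX ψ hU.aff₂ hB hV.aff0 hK m.β0 (m.hb0 πB) hS.aff0, ← hkey, c0,
    delta_eq πX πB τ L (hU.aff₂ i j) hV (hU.flat₂ i j)
      ((hh i).res πX πB τ L g' inf_le_left le_rfl).1 (hc i j)]
  exact congrArg _ (m.bS0_comm πB hmV (c i j))

end Groth.Agent.H12Pic.Cube
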