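import Groth.Agent.H12Pic.Cube.RelMain

/-!
# Trivial slices give the data of the relative cube
-/

set_option autoImplicit false
set_option linter.style.haveILetI false
set_option linter.unusedSectionVars false

noncomputable section

universe u

open CategoryTheory CategoryTheory.Limits AlgebraicGeometry TopologicalSpace

namespace Groth.Agent.H12Pic.Cube

variable {S X Y Z : Scheme.{u}} {pX : X ⟶ S} {pY : Y ⟶ S} {pZ : Z ⟶ S} {L : (T₃ pX pY pZ).Modules}

/-- Trivial slices through the two sections give the data. -/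
def RelData.ofSlices (hL : PicF.IsInvertible L) (x : S ⟶ X) (hx : x ≫ pX = 𝟙 S) (y : S ⟶ Y) (hy : y ≫ pY = 𝟙 S)
    (e1 : (pY ≫ x) ≫ pX = 𝟙 Y ≫ pY) (e2 : 𝟙 X ≫ pX = (pX ≫ y) ≫ pY)
    (w1 : (pullback.lift (pY ≫ x) (𝟙 Y) e1 ≫ (pullback.fst pX pY ≫ pX)) ≫ 𝟙 S =
      pullback.lift (pY ≫ x) (𝟙 Y) e1 ≫ (pullback.fst pX pY ≫ pX))
    (w2 : (pullback.lift (𝟙 X) (pX ≫ y) e2 ≫ (pullback.fst pX pY ≫ pX)) ≫ 𝟙 S =
      pullback.lift (𝟙 X) (pX ≫ y) e2 ≫ (pullback.fst pX pY ≫ pX))
    (w : pZ ≫ 𝟙 S = 𝟙 Z ≫ pZ)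
    (h₁ : Triv (pullback.map (pullback.lift (pY ≫ x) (𝟙 Y) e1 ≫ (pullback.fst pX pY ≫ pX)) pZ
      (pullback.fst pX pY ≫ pX) pZ (pullback.lift (pY ≫ x) (𝟙 Y) e1) (𝟙 Z) (𝟙 S) w1 w) L)
    (h₂ : Triv (pullback.map (pullback.lift (𝟙 X) (pX ≫ y) e2 ≫ (pullback.fst pX pY ≫ pX)) pZ
      (pullback.fst pX pY ≫ pX) pZ (pullback.lift (𝟙 X) (pX ≫ y) e2) (𝟙 Z) (𝟙 S) w2 w) L) :
    RelData pX pY pZ L where
  hL := hL
  x := x
  hx := hx
  y := y
  hy := hy
  triv_x {D} l hl := by
    have hq : l ≫ pullback.fst _ _ ≫ pullback.fst pX pY ≫ pX = l ≫ q₃ pX pY pZ ≫ pZ :=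
      congrArg (l ≫ ·) pullback.condition
    have hsnd : l ≫ pullback.fst _ _ ≫ pullback.snd pX pY ≫ pY = l ≫ q₃ pX pY pZ ≫ pZ := by
      rw [← pullback.condition]
      exact hq
    refine h₁.comp' (pullback.lift (l ≫ pullback.fst _ _ ≫ pullback.snd pX pY) (l ≫ q₃ pX pY pZ) (by
      simp only [Category.assoc, pullback.lift_fst_assoc, hx, Category.comp_id]
      exact hsnd)) ?_
    apply pullback.hom_ext
    · simp only [Category.assoc, pullback.lift_fst, pullback.lift_fst_assoc]
      apply pullback.hom_ext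
      · simp only [Category.assoc, pullback.lift_fst]
        rw [hl]
        simp only [Category.assoc]
        have := congrArg (· ≫ x) hsnd
        simp only [Category.assoc] at this
        exact this
      · simp only [Category.assoc, pullback.lift_snd, Category.comp_id]
    · simp only [Category.assoc, pullback.lift_snd, pullback.lift_snd_assoc, Category.comp_id]
  triv_y {D} l hl := by
    have hq : l ≫ pullback.fst _ _ ≫ pullback.fst pX pY ≫ pX = l ≫ q₃ pX pY pZ ≫ pZ :=
      congrArg (l ≫ ·) pullback.condition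
    refine h₂.comp' (pullback.lift (l ≫ pullback.fst _ _ ≫ pullback.fst pX pY) (l ≫ q₃ pX pY pZ) (by
      simp only [Category.assoc, pullback.lift_fst_assoc, Category.id_comp]
      exact hq)) ?_
    apply pullback.hom_ext
    · simp only [Category.assoc, pullback.lift_fst, pullback.lift_fst_assoc]
      apply pullback.hom_ext
      · simp only [Category.assoc, pullback.lift_fst, Category.comp_id]
      · simp only [Category.assoc, pullback.lift_snd]
        rw [hl]
        simp only [Category.assoc]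
        have := congrArg (· ≫ y) hq
        simp only [Category.assoc] at this
        exact this
    · simp only [Category.assoc, pullback.lift_snd, pullback.lift_snd_assoc, Category.comp_id]

end Groth.Agent.H12Pic.Cube
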