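import Groth.Agent.LeadFF.BaseChange
import Mathlib.RingTheory.Flat.Basic
import Mathlib.LinearAlgebra.TensorProduct.Pi
import Mathlib.LinearAlgebra.Dual.Lemmas

/-!
# Sections of a product over boxes of affine opens
-/

set_option autoImplicit false
set_option linter.style.haveILetI false
set_option linter.unusedSectionVars false

noncomputable section

universe u

open CategoryTheory CategoryTheory.Limits AlgebraicGeometry TopologicalSpace Opposite
open scoped TensorProduct

namespace Groth.Agent.H12Pic.Cube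

open Groth.Agent.LeadFF

variable {A : Type u} [CommRing A]

/-- The algebra structure on sections. -/
@[reducible] def alg {X : Scheme.{u}} (π : X ⟶ Spec (CommRingCat.of A)) (U : X.Opens) : Algebra A Γ(X, U) :=
  (scal π U).toAlgebra

variable {X B : Scheme.{u}} (πX : X ⟶ Spec (CommRingCat.of A)) (πB : B ⟶ Spec (CommRingCat.of A))

/-- The box over `U` and `V`. -/
def Oc (U : X.Opens) (V : B.Opens) : (pullback πX πB).Opens :=
  pullback.fst πX πB ⁻¹ᵁ U ⊓ pullback.snd πX πB ⁻¹ᵁ V

theorem Oc_mono {U U' : X.Opens} {V V' : B.Opens} (hU : U' ≤ U) (hV : V' ≤ V) :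
    Oc πX πB U' V' ≤ Oc πX πB U V :=
  inf_le_inf ((Opens.map _).monotone hU) ((Opens.map _).monotone hV)

/-- Functions of the first factor on a box. -/
def fstS (U : X.Opens) (V : B.Opens) : Γ(X, U) ⟶ Γ(pullback πX πB, Oc πX πB U V) :=
  (pullback.fst πX πB).appLE U (Oc πX πB U V) inf_le_left

/-- Functions of the second factor on a box. -/
def sndS (U : X.Opens) (V : B.Opens) : Γ(B, V) ⟶ Γ(pullback πX πB, Oc πX πB U V) :=
  (pullback.snd πX πB).appLE V (Oc πX πB U V) inf_le_right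

theorem isPushout_oc {U : X.Opens} {V : B.Opens} (hU : IsAffineOpen U) (hV : IsAffineOpen V) :
    IsPushout (CommRingCat.ofHom (scal πX U)) (CommRingCat.ofHom (scal πB V)) (fstS πX πB U V) (sndS πX πB U V) := by
  have hY : Oc πX πB U V = pullback.fst πX πB ⁻¹ᵁ U ⊓ pullback.snd πX πB ⁻¹ᵁ V := rfl
  haveI := isIso_pushoutSection_of_isAffineOpen (IsPullback.of_hasPullback πX πB) (US := ⊤) (UT := V) (UX := U)
    (UY := Oc πX πB U V) le_top le_top hY (isAffineOpen_top _) hV hU
  refine ((isIso_pushoutSection_iff (IsPullback.of_hasPullback πX πB) le_top le_top hY).mp inferInstance).of_iso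
    (Scheme.ΓSpecIso (CommRingCat.of A)) (Iso.refl _) (Iso.refl _) (Iso.refl _) ?_ ?_ ?_ ?_
  · show πX.appLE ⊤ U le_top ≫ 𝟙 _ =
      (Scheme.ΓSpecIso (CommRingCat.of A)).hom ≫ (Scheme.ΓSpecIso (CommRingCat.of A)).inv ≫ πX.appLE ⊤ U le_top
    rw [Category.comp_id, Iso.hom_inv_id_assoc]
  · show πB.appLE ⊤ V le_top ≫ 𝟙 _ =
      (Scheme.ΓSpecIso (CommRingCat.of A)).hom ≫ (Scheme.ΓSpecIso (CommRingCat.of A)).inv ≫ πB.appLE ⊤ V le_top
    rw [Category.comp_id, Iso.hom_inv_id_assoc]
  · exact (Category.comp_id _).trans (Category.id_comp _).symm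
  · exact (Category.comp_id _).trans (Category.id_comp _).symm

theorem fstS_scal (U : X.Opens) (V : B.Opens) (a : A) :
    fstS πX πB U V (scal πX U a) = sndS πX πB U V (scal πB V a) := by
  have h : CommRingCat.ofHom (scal πX U) ≫ fstS πX πB U V = CommRingCat.ofHom (scal πB V) ≫ sndS πX πB U V := by
    rw [scal_eq_appLE, scal_eq_appLE, fstS, sndS, Category.assoc, Category.assoc,
      Scheme.Hom.appLE_comp_appLE, Scheme.Hom.appLE_comp_appLE]
    simp only [pullback.condition]
  exact ConcreteCategory.congr_hom h a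

/-- Sections over a box are the tensor product of the sections. -/
theorem exists_secEquiv {U : X.Opens} {V : B.Opens} (hU : IsAffineOpen U) (hV : IsAffineOpen V) :
    letI := alg πX U; letI := alg πB V
    ∃ e : Γ(X, U) ⊗[A] Γ(B, V) ≃+ Γ(pullback πX πB, Oc πX πB U V),
      ∀ m r, e (m ⊗ₜ r) = fstS πX πB U V m * sndS πX πB U V r := by
  letI := alg πX U
  letI := alg πB V
  letI : Algebra Γ(X, U) Γ(pullback πX πB, Oc πX πB U V) := (fstS πX πB U V).hom.toAlgebra
  letI : Algebra Γ(B, V) Γ(pullback πX πB, Oc πX πB U V) := (sndS πX πB U V).hom.toAlgebra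
  letI : Algebra A Γ(pullback πX πB, Oc πX πB U V) := ((fstS πX πB U V).hom.comp (scal πX U)).toAlgebra
  haveI : IsScalarTower A Γ(X, U) Γ(pullback πX πB, Oc πX πB U V) := .of_algebraMap_eq fun _ => rfl
  haveI : IsScalarTower A Γ(B, V) Γ(pullback πX πB, Oc πX πB U V) :=
    .of_algebraMap_eq fun a => fstS_scal πX πB U V a
  haveI : Algebra.IsPushout A Γ(X, U) Γ(B, V) Γ(pullback πX πB, Oc πX πB U V) :=
    CommRingCat.isPushout_iff_isPushout.mp (by simpa using! isPushout_oc πX πB hU hV)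
  refine ⟨(Algebra.IsPushout.equiv A Γ(X, U) Γ(B, V) Γ(pullback πX πB, Oc πX πB U V)).toAddEquiv, fun m r => ?_⟩
  exact (Algebra.IsPushout.equiv_tmul A Γ(X, U) Γ(B, V) _ m r).trans rfl

theorem induction_oc {U : X.Opens} {V : B.Opens} (hU : IsAffineOpen U) (hV : IsAffineOpen V)
    (P : Γ(pullback πX πB, Oc πX πB U V) → Prop) (h0 : P 0) (hadd : ∀ x y, P x → P y → P (x + y))
    (hmul : ∀ m r, P (fstS πX πB U V m * sndS πX πB U V r)) : ∀ z, P z := by
  letI := alg πX U
  letI := alg πB V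
  obtain ⟨e, he⟩ := exists_secEquiv πX πB hU hV
  intro z
  obtain ⟨t, rfl⟩ := e.surjective z
  induction t using TensorProduct.induction_on with
  | zero => rw [map_zero]; exact h0
  | tmul m r => rw [he]; exact hmul m r
  | add x y hx hy => rw [map_add]; exact hadd _ _ hx hy

/-- Semilinear functionals of the first factor extend to boxes. -/
theorem exists_extend {U : X.Opens} {V : B.Opens} (hU : IsAffineOpen U) (hV : IsAffineOpen V) {R : Type u}
    [CommRing R] (ρ : Γ(B, V) →+* R) (ψ : Γ(X, U) →+ R)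
    (hψ : ∀ a m, ψ (scal πX U a * m) = ρ (scal πB V a) * ψ m) :
    ∃ Φ : Γ(pullback πX πB, Oc πX πB U V) →+ R,
      ∀ m r, Φ (fstS πX πB U V m * sndS πX πB U V r) = ψ m * ρ r := by
  letI := alg πX U
  letI := alg πB V
  obtain ⟨e, he⟩ := exists_secEquiv πX πB hU hV
  let Φ₀ : Γ(X, U) ⊗[A] Γ(B, V) →+ R := TensorProduct.liftAddHom
    { toFun := fun m =>
        { toFun := fun r => ψ m * ρ r
          map_zero' := by rw [map_zero, mul_zero]
          map_add' := fun r s => by rw [map_add, mul_add] }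
      map_zero' := AddMonoidHom.ext fun r => by
        show ψ 0 * ρ r = 0
        rw [map_zero, zero_mul]
      map_add' := fun m n => AddMonoidHom.ext fun r => by
        show ψ (m + n) * ρ r = ψ m * ρ r + ψ n * ρ r
        rw [map_add, add_mul] }
    fun a m r => by
      show ψ (a • m) * ρ r = ψ m * ρ (a • r)
      rw [Algebra.smul_def, Algebra.smul_def]
      show ψ (scal πX U a * m) * ρ r = ψ m * ρ (scal πB V a * r)
      rw [hψ, map_mul, mul_assoc, mul_left_comm]
  refine ⟨Φ₀.comp e.symm.toAddMonoidHom, fun m r => ?_⟩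
  show Φ₀ (e.symm _) = _
  rw [← he, AddEquiv.symm_apply_apply]
  rfl

section Map

variable {B' : Scheme.{u}} {πB' : B' ⟶ Spec (CommRingCat.of A)} (b : B' ⟶ B) (hb : b ≫ πB = πB')

/-- The map of products induced by a map of second factors. -/
def bT : pullback πX πB' ⟶ pullback πX πB :=
  pullback.map πX πB' πX πB (𝟙 X) b (𝟙 _) (by simp) (by rw [Category.comp_id, hb])

theorem bT_fst : bT πX πB b hb ≫ pullback.fst πX πB = pullback.fst πX πB' :=
  (pullback.lift_fst _ _ _).trans (Category.comp_id _)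

theorem bT_snd : bT πX πB b hb ≫ pullback.snd πX πB = pullback.snd πX πB' ≫ b :=
  pullback.lift_snd _ _ _

variable {U U' : X.Opens} {V : B.Opens} {V' : B'.Opens}

theorem Oc_le_preimage (hU : U' ≤ U) (hV : V' ≤ b ⁻¹ᵁ V) :
    Oc πX πB' U' V' ≤ bT πX πB b hb ⁻¹ᵁ Oc πX πB U V := by
  intro x hx
  refine ⟨?_, ?_⟩
  · show (bT πX πB b hb ≫ pullback.fst πX πB) x ∈ U
    rw [bT_fst]
    exact hU hx.1
  · show (bT πX πB b hb ≫ pullback.snd πX πB) x ∈ V
    rw [bT_snd]
    exact hV hx.2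

/-- Restriction of functions along a map of second factors. -/
def bS (hU : U' ≤ U) (hV : V' ≤ b ⁻¹ᵁ V) :
    Γ(pullback πX πB, Oc πX πB U V) ⟶ Γ(pullback πX πB', Oc πX πB' U' V') :=
  (bT πX πB b hb).appLE _ _ (Oc_le_preimage πX πB b hb hU hV)

theorem bS_fstS (hU : U' ≤ U) (hV : V' ≤ b ⁻¹ᵁ V) (m : Γ(X, U)) :
    bS πX πB b hb hU hV (fstS πX πB U V m) = fstS πX πB' U' V' (X.presheaf.map (homOfLE hU).op m) := by
  have h : fstS πX πB U V ≫ bS πX πB b hb hU hV = X.presheaf.map (homOfLE hU).op ≫ fstS πX πB' U' V' := by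
    rw [fstS, fstS, bS, Scheme.Hom.appLE_comp_appLE, Scheme.Hom.map_appLE]
    simp only [bT_fst]
  exact ConcreteCategory.congr_hom h m

theorem bS_sndS (hU : U' ≤ U) (hV : V' ≤ b ⁻¹ᵁ V) (r : Γ(B, V)) :
    bS πX πB b hb hU hV (sndS πX πB U V r) = sndS πX πB' U' V' (b.appLE V V' hV r) := by
  have h : sndS πX πB U V ≫ bS πX πB b hb hU hV = b.appLE V V' hV ≫ sndS πX πB' U' V' := by
    rw [sndS, sndS, bS, Scheme.Hom.appLE_comp_appLE, Scheme.Hom.appLE_comp_appLE]
    simp only [bT_snd]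
  exact ConcreteCategory.congr_hom h r

end Map

section Res

variable {U U' : X.Opens} {V V' : B.Opens}

/-- Restriction between boxes. -/
def resS (hU : U' ≤ U) (hV : V' ≤ V) :
    Γ(pullback πX πB, Oc πX πB U V) ⟶ Γ(pullback πX πB, Oc πX πB U' V') :=
  (pullback πX πB).presheaf.map (homOfLE (Oc_mono πX πB hU hV)).op

theorem resS_fstS (hU : U' ≤ U) (hV : V' ≤ V) (m : Γ(X, U)) :
    resS πX πB hU hV (fstS πX πB U V m) = fstS πX πB U' V' (X.presheaf.map (homOfLE hU).op m) := by
  have h : fstS πX πB U V ≫ resS πX πB hU hV = X.presheaf.map (homOfLE hU).op ≫ fstS πX πB U' V' := by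
    rw [fstS, fstS, resS, Scheme.Hom.appLE_map, Scheme.Hom.map_appLE]
  exact ConcreteCategory.congr_hom h m

theorem resS_sndS (hU : U' ≤ U) (hV : V' ≤ V) (r : Γ(B, V)) :
    resS πX πB hU hV (sndS πX πB U V r) = sndS πX πB U' V' (B.presheaf.map (homOfLE hV).op r) := by
  have h : sndS πX πB U V ≫ resS πX πB hU hV = B.presheaf.map (homOfLE hV).op ≫ sndS πX πB U' V' := by
    rw [sndS, sndS, resS, Scheme.Hom.appLE_map, Scheme.Hom.map_appLE]
  exact ConcreteCategory.congr_hom h r

end Res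

end Groth.Agent.H12Pic.Cube
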