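import Groth.Agent.H12Pic.Cube.Obs
import Mathlib.LinearAlgebra.TensorProduct.Quotient
import Mathlib.LinearAlgebra.Dual.Lemmas

/-!
# A vanishing obstruction gives a trivialisation
-/

set_option autoImplicit false
set_option linter.style.haveILetI false
set_option linter.unusedSectionVars false

noncomputable section

universe u

open CategoryTheory CategoryTheory.Limits AlgebraicGeometry TopologicalSpace Opposite
open scoped TensorProduct

namespace Groth.Agent.H12Pic.Cube

open Groth.Agent.LeadFF Groth.Agent.H11Tilde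

/-- Vectors killed by all functionals on a quotient vanish modulo the ideal. -/
theorem mem_of_forall_functional {A : Type u} [CommRing A] (I : Ideal A) [I.IsMaximal] {M : Type u}
    [AddCommGroup M] [Module A M] (x : M)
    (h : ∀ f : M →+ A ⧸ I, (∀ a m, f (a • m) = Ideal.Quotient.mk I a * f m) → f x = 0) :
    x ∈ I • (⊤ : Submodule A M) := by
  letI : Field (A ⧸ I) := Ideal.Quotient.field I
  have h0 : (1 : A ⧸ I) ⊗ₜ[A] x = 0 := by
    refine (Module.forall_dual_apply_eq_zero_iff (A ⧸ I) _).1 fun φ => ?_
    refine h ((φ.restrictScalars A).comp (TensorProduct.mk A (A ⧸ I) M 1)).toAddMonoidHom fun a m => ?_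
    show φ ((1 : A ⧸ I) ⊗ₜ[A] (a • m)) = Ideal.Quotient.mk I a * φ ((1 : A ⧸ I) ⊗ₜ[A] m)
    rw [TensorProduct.tmul_smul, ← algebraMap_smul (A ⧸ I) a, map_smul, smul_eq_mul]
    rfl
  have := congrArg (TensorProduct.quotTensorEquivQuotSMul M I) h0
  rw [map_zero, show (1 : A ⧸ I) = Ideal.Quotient.mk I 1 from rfl,
    TensorProduct.quotTensorEquivQuotSMul_mk_tmul, one_smul, Submodule.Quotient.mk_eq_zero] at this
  exact this

variable {A : Type u} [CommRing A] {X : Scheme.{u}} (πX : X ⟶ Spec (CommRingCat.of A))
  {B : Scheme.{u}} {πB : B ⟶ Spec (CommRingCat.of A)} {V : B.Opens} (hV : IsAffineOpen V) {I : Ideal A}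
  [I.IsMaximal] (hB : Kills I πB) {ι : Type u} [Fintype ι] {U : ι → X.Opens}
  (hU : ∀ i, IsAffineOpen (U i)) (hU₂ : ∀ i j, IsAffineOpen (U i ⊓ U j))

include hU₂ in
theorem exists_expansion {P : Type u} (β : letI := (hB.sκ V).toAlgebra; Module.Basis P (A ⧸ I) Γ(B, V))
    (i j : ι) (z : Γ(pullback πX πB, Oc πX πB (U i ⊓ U j) V)) (hV : IsAffineOpen V) :
    ∃ m : P →₀ Γ(X, U i ⊓ U j), m.sum (fun p x => fstS πX πB _ V x * sndS πX πB _ V (β p)) = z := by
  classical
  letI := (hB.sκ V).toAlgebra
  induction z using induction_oc πX πB (hU₂ i j) hV with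
  | h0 => exact ⟨0, Finsupp.sum_zero_index⟩
  | hadd x y hx hy =>
    obtain ⟨mx, rfl⟩ := hx
    obtain ⟨my, rfl⟩ := hy
    exact ⟨mx + my, Finsupp.sum_add_index' (fun p => by rw [map_zero, zero_mul])
      fun p a b => by rw [map_add, add_mul]⟩
  | hmul m r =>
    obtain ⟨c, rfl⟩ : ∃ c : P →₀ A ⧸ I, c.sum (fun p t => t • β p) = r := ⟨β.repr r, β.linearCombination_repr r⟩
    refine ⟨c.mapRange (fun t => scal πX _ (if t = 0 then 0 else (Ideal.Quotient.mk_surjective t).choose) * m)
      (by rw [if_pos rfl, map_zero, zero_mul]), ?_⟩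
    rw [Finsupp.sum_mapRange_index fun p => by rw [map_zero, zero_mul], map_finsuppSum, Finsupp.mul_sum]
    refine Finsupp.sum_congr fun p _ => ?_
    show fstS πX πB _ V (scal πX _ _ * m) * _ = fstS πX πB _ V m * sndS πX πB _ V (hB.sκ V (c p) * β p)
    have hlift : Ideal.Quotient.mk I (if c p = 0 then 0 else (Ideal.Quotient.mk_surjective (c p)).choose) = c p := by
      split_ifs with h
      · rw [h, map_zero]
      · exact (Ideal.Quotient.mk_surjective (c p)).choose_spec
    rw [map_mul, fstS_scal, map_mul, ← hB.sκ_mk, hlift]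
    ring

theorem fstS_eq_zero {W : X.Opens} {x : Γ(X, W)} (hx : letI := alg πX W; x ∈ I • (⊤ : Submodule A Γ(X, W)))
    (hB : Kills I πB) : fstS πX πB W V x = 0 := by
  letI := alg πX W
  refine Submodule.smul_induction_on hx (fun a ha m _ => ?_) fun y z hy hz => by rw [map_add, hy, hz, add_zero]
  rw [Algebra.smul_def]
  show fstS πX πB W V (scal πX W a * m) = 0
  rw [map_mul, fstS_scal, hB.scal_eq_zero V ha, map_zero, zero_mul]

include hV hB hU hU₂ in
/-- Cochains on boxes killed by all functionals are coboundaries. -/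
theorem exists_eq_cb (z : ∀ i j, Γ(pullback πX πB, Oc πX πB (U i ⊓ U j) V))
    (h : ∀ ψ : Fnl πX I U, phiSum πX ψ hU₂ hB hV z = 0) :
    ∃ a : ∀ i, Γ(pullback πX πB, Oc πX πB (U i) V), ∀ i j, cb πX πB U V a i j = z i j := by
  classical
  letI : Field (A ⧸ I) := Ideal.Quotient.field I
  letI := (hB.sκ V).toAlgebra
  obtain ⟨⟨P, β⟩⟩ := Module.Free.exists_basis (R := A ⧸ I) (M := Γ(B, V))
  choose m hm using fun i j => exists_expansion πX hB hU₂ β i j (z i j) hV
  letI al := fun i => alg πX (U i)
  letI al₂ := fun i j => alg πX (U i ⊓ U j)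
  let d : (∀ i, Γ(X, U i)) →ₗ[A] ∀ i j, Γ(X, U i ⊓ U j) :=
    { toFun := fun x i j => resR U i j (x j) - resL U i j (x i)
      map_add' := fun x y => funext fun i => funext fun j => by
        simp only [Pi.add_apply, map_add]
        abel
      map_smul' := fun a x => funext fun i => funext fun j => by
        show resR U i j (scal πX _ a * x j) - resL U i j (scal πX _ a * x i) =
          scal πX _ a * (resR U i j (x j) - resL U i j (x i))
        rw [map_mul, map_mul, mul_sub]
        congr 1
        · exact congrArg (· * _) (map_scal πX inf_le_right a)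
        · exact congrArg (· * _) (map_scal πX inf_le_left a) }
  have hp : ∀ p, ∃ x, ∀ i j, fstS πX πB _ V (m i j p - d x i j) = 0 := by
    intro p
    have hx : Submodule.Quotient.mk (p := LinearMap.range d) (fun i j => m i j p) ∈
        I • (⊤ : Submodule A ((∀ i j, Γ(X, U i ⊓ U j)) ⧸ LinearMap.range d)) := by
      refine mem_of_forall_functional I _ fun f hf => ?_
      let g : (∀ i j, Γ(X, U i ⊓ U j)) →+ A ⧸ I := f.comp (LinearMap.range d).mkQ.toAddMonoidHom
      let ψ : Fnl πX I U :=
        { ψ := fun i j => g.comp ((AddMonoidHom.single (fun i => ∀ j, Γ(X, U i ⊓ U j)) i).comp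
            (AddMonoidHom.single (fun j => Γ(X, U i ⊓ U j)) j))
          semilin := fun i j a x => by
            show f ((LinearMap.range d).mkQ (Pi.single i (Pi.single j (a • x)))) =
              Ideal.Quotient.mk I a * f ((LinearMap.range d).mkQ (Pi.single i (Pi.single j x)))
            rw [Pi.single_smul, Pi.single_smul, map_smul, hf]
          cocycle := fun x => by
            simp only [AddMonoidHom.comp_apply, AddMonoidHom.single_apply, ← map_sum, Finset.univ_sum_single]
            have h1 : (fun i => ∑ j, (Pi.single j (resR U i j (x j) - resL U i j (x i)) :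
                ∀ j, Γ(X, U i ⊓ U j))) = d x := funext fun i => Finset.univ_sum_single _
            have h2 : ∑ i, ∑ j, Pi.single i (Pi.single j (resR U i j (x j) - resL U i j (x i))) = d x := by
              rw [← h1]
              conv_rhs => rw [← Finset.univ_sum_single (fun i => ∑ j, (Pi.single j
                (resR U i j (x j) - resL U i j (x i)) : ∀ j, Γ(X, U i ⊓ U j)))]
              refine Finset.sum_congr rfl fun i _ => ?_
              exact (map_sum (AddMonoidHom.single (fun i => ∀ j, Γ(X, U i ⊓ U j)) i) _ _).symm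
            rw [h2]
            show f ((LinearMap.range d).mkQ (d x)) = 0
            rw [(Submodule.Quotient.mk_eq_zero _).2 ⟨x, rfl⟩ |> fun e => show (LinearMap.range d).mkQ (d x) = 0 from e,
              map_zero] }
      have e1 := h ψ
      have e2 : ∀ i j, phi πX ψ hU₂ hB hV i j (z i j) = ((m i j).mapRange (ψ.ψ i j) (map_zero _)).sum
          (fun q t => t • β q) := by
        intro i j
        rw [← hm i j, map_finsuppSum]
        refine Eq.trans ?_ (Finsupp.sum_mapRange_index (h := fun q (t : A ⧸ I) => t • β q) fun q => zero_smul _ _).symm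
        exact Finsupp.sum_congr fun q _ => phi_tmul πX ψ hU₂ hB hV i j _ _
      simp only [phiSum, e2] at e1
      have e3 : β.repr.symm (∑ i, ∑ j, (m i j).mapRange (ψ.ψ i j) (map_zero _)) = 0 := by
        rw [Module.Basis.repr_symm_apply, map_sum]
        simp only [map_sum]
        exact e1
      have e4 := congrArg (fun c : P →₀ A ⧸ I => c p) ((LinearEquiv.map_eq_zero_iff β.repr.symm).1 e3)
      simp only [Finsupp.finsetSum_apply, Finsupp.mapRange_apply, Finsupp.zero_apply] at e4
      refine Eq.trans ?_ e4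
      show g (fun i j => m i j p) = _
      conv_lhs => rw [← Finset.univ_sum_single (fun i j => m i j p)]
      rw [map_sum]
      refine Finset.sum_congr rfl fun i _ => ?_
      conv_lhs => rw [← Finset.univ_sum_single (fun j => m i j p)]
      rw [show (Pi.single i (∑ j, Pi.single j (m i j p)) : ∀ i j, Γ(X, U i ⊓ U j)) =
          ∑ j, Pi.single i (Pi.single j (m i j p)) from
        map_sum (AddMonoidHom.single (fun i => ∀ j, Γ(X, U i ⊓ U j)) i) _ _, map_sum]
      rfl
    have hx' : (LinearMap.range d).mkQ (fun i j => m i j p) ∈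
        Submodule.map (LinearMap.range d).mkQ (I • ⊤) := by
      rw [Submodule.map_smul'', Submodule.map_top, Submodule.range_mkQ]
      exact hx
    obtain ⟨y, hy, hy'⟩ := hx'
    obtain ⟨x, hx⟩ := (Submodule.Quotient.eq _).1 hy'.symm
    refine ⟨x, fun i j => ?_⟩
    rw [show m i j p - d x i j = y i j by
      rw [hx]
      simp]
    refine fstS_eq_zero πX ?_ hB
    refine Submodule.smul_induction_on hy (fun a ha w _ => ?_) fun w w' hw hw' => add_mem hw hw'
    exact Submodule.smul_mem_smul ha trivial
  choose x hx using hp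
  let S : Finset P := Finset.univ.biUnion fun i => Finset.univ.biUnion fun j => (m i j).support
  refine ⟨fun i => ∑ p ∈ S, fstS πX πB (U i) V (x p i) * sndS πX πB (U i) V (β p), fun i j => ?_⟩
  rw [← hm i j, Finsupp.sum_of_support_subset (m i j) (s := S)
    (fun p hp => Finset.mem_biUnion.2 ⟨i, Finset.mem_univ _, Finset.mem_biUnion.2 ⟨j, Finset.mem_univ _, hp⟩⟩) _
    (fun p _ => by rw [map_zero, zero_mul])]
  simp only [cb, map_sum, resS_tmul, ← Finset.sum_sub_distrib, ← sub_mul, ← map_sub]
  refine Finset.sum_congr rfl fun p _ => congrArg (· * _) ?_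
  exact (sub_eq_zero.1 (by rw [← map_sub]; exact hx p i j)).symm

end Groth.Agent.H12Pic.Cube
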