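import Groth.Agent.H12Pic.Cube.Split
import Groth.Agent.H12Pic.Cube.Point

/-!
# Triviality propagates along a square-zero triple
-/

set_option autoImplicit false
set_option linter.style.haveILetI false
set_option linter.unusedSectionVars false

noncomputable section

universe u

open CategoryTheory CategoryTheory.Limits AlgebraicGeometry TopologicalSpace Opposite

namespace Groth.Agent.H12Pic.Cube

open Groth.Agent.LeadFF Groth.Agent.H11Tilde

variable {A : Type u} [CommRing A] {X : Scheme.{u}} {πX : X ⟶ Spec (CommRingCat.of A)}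
  {B : Scheme.{u}} (πB : B ⟶ Spec (CommRingCat.of A)) (τ : Triple B)
  (L : (pullback πX πB).Modules) (g' : Γ((Scheme.Modules.pullback (jm πX πB τ)).obj L, ⊤))
  {ι : Type u} [Fintype ι] {U : ι → X.Opens} (hU : GoodCover πX U) {I : Ideal A} [I.IsMaximal]
  (hB : Kills I (τ.i0 ≫ πB)) [Surjective τ.i'] (hL : PicF.IsInvertible L)
  (hg : IsGen ((Scheme.Modules.pullback (jm πX πB τ)).obj L) g')

include hU hB hL hg in
/-- Without obstruction the trivialisation extends over a good open. -/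
theorem exists_gen_of_obs {V : B.Opens} (hV : Good τ V)
    (h0 : ∀ ψ : Fnl πX I U, obs πB τ L g' hU hV ψ hB hL hg = 0) :
    ∃ m : Γ(L, pullback.snd πX πB ⁻¹ᵁ V), IsGen L m := by
  let h := fun i => (exists_isLift πX πB τ L g' (hU.aff i) hV hL hg).choose
  have hh : ∀ i, IsLift πX πB τ L g' (U i) V (h i) :=
    fun i => (exists_isLift πX πB τ L g' (hU.aff i) hV hL hg).choose_spec
  obtain ⟨a, ha⟩ := exists_eq_cb πX hV.aff0 hB hU.aff hU.aff₂ (c0 πX πB τ L U h) h0
  have hsurj : ∀ i, ∃ b, bS πX πB τ.i0 rfl (le_refl (U i)) (le_refl (τ.i0 ⁻¹ᵁ V)) b = -a i :=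
    fun i => bS_surjective πX πB τ.i0 rfl (hU.aff i) hV.aff hV.aff0 hV.surj0 (-a i)
  choose b hb using hsurj
  let h' := fun i => (1 + sndS πX πB (U i) V (τ.e V) * b i) • h i
  have hh' : ∀ i, IsLift πX πB τ L g' (U i) V (h' i) := fun i => (hh i).add πX πB τ L g' hV (b i)
  have hδ : ∀ i, delta πX πB τ L (h i) (h' i) = -a i := fun i =>
    (delta_eq πX πB τ L (hU.aff i) hV (hU.flat i) (hh i).1 rfl).trans (hb i)
  have hz : ∀ i j, c0 πX πB τ L U h' i j = 0 := fun i j => by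
    rw [c0_change πB τ L g' hU hV hh hh', ← ha i j]
    simp only [cb, hδ, map_neg]
    ring
  have heq : ∀ i j, L.presheaf.map (homOfLE (Oc_mono πX πB inf_le_left (le_refl V))).op (h' i) =
      L.presheaf.map (homOfLE (Oc_mono πX πB (inf_le_right : U i ⊓ U j ≤ U j) (le_refl V))).op (h' j) :=
    fun i j => eq_of_delta_eq_zero πX πB τ L g' (hU.aff₂ i j) hV (hU.flat₂ i j)
      ((hh' i).res πX πB τ L g' inf_le_left le_rfl) ((hh' j).res πX πB τ L g' inf_le_right le_rfl) (hz i j)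
  obtain ⟨m, hm, -⟩ := TopCat.Sheaf.existsUnique_gluing' ⟨L.presheaf, L.isSheaf⟩
    (fun i => Oc πX πB (U i) V) (pullback.snd πX πB ⁻¹ᵁ V) (fun _ => homOfLE inf_le_right) (fun x hx => by
      obtain ⟨i, hi⟩ := hU.cover (pullback.fst πX πB x)
      exact Opens.mem_iSup.2 ⟨i, ⟨hi, hx⟩⟩) h' (fun i j => by
      have := congrArg (L.presheaf.map (homOfLE (Oc_inf πX πB (U i) (U j) V).le).op) (heq i j)
      simp only [H10Coh.mres_mres] at this
      exact this)
  refine ⟨m, fun x hx => ?_⟩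
  obtain ⟨i, hi⟩ := hU.cover (pullback.fst πX πB x)
  have h1 := (hh' i).1 x ⟨hi, hx⟩
  have h2 := TopCat.Presheaf.germ_res_apply L.presheaf
    (homOfLE (inf_le_right : Oc πX πB (U i) V ≤ pullback.snd πX πB ⁻¹ᵁ V)) x ⟨hi, hx⟩ m
  erw [hm i] at h2
  have h3 : L.presheaf.germ (Oc πX πB (U i) V) x ⟨hi, hx⟩ (h' i) =
      L.presheaf.germ (pullback.snd πX πB ⁻¹ᵁ V) x hx m := h2
  rw [h3] at h1
  exact h1

include hU hB hL hg in
/-- A trivialisation extends if the bundle is trivial at a point that detects functions. -/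
theorem exists_gen_step (P : B.Opens → Prop) (hP : ∀ V, P V → Good τ V) (hcov : ∀ x : B, ∃ V, P V ∧ x ∈ V)
    (hinter : ∀ V V' : B.Opens, P V → P V' → ∀ x : B, x ∈ V → x ∈ V' → ∃ W, P W ∧ x ∈ W ∧ W ≤ V ∧ W ≤ V')
    {S : Scheme.{u}} {σ : Triple S} (m : TMap τ σ) (hS : Good σ ⊤)
    (gσ : Γ((Scheme.Modules.pullback (bT πX πB m.β rfl)).obj L, ⊤))
    (hgσ : IsGen ((Scheme.Modules.pullback (bT πX πB m.β rfl)).obj L) gσ)
    (hΓ : Function.Bijective ((pullback.snd πX (σ.i' ≫ m.β ≫ πB)).app ⊤))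
    (hpt : ∃ V, P V ∧ (⊤ : S.Opens) ≤ m.β ⁻¹ᵁ V) (hinj : Function.Injective m.β0.appTop)
    {V : B.Opens} (hV : P V) :
    ∃ m' : Γ(L, pullback.snd πX πB ⁻¹ᵁ V), IsGen L m' := by
  refine exists_gen_of_obs πB τ L g' hU hB hL hg (hP V hV) fun ψ => ?_
  obtain ⟨j, hj⟩ := exists_glob_obs πB τ L g' hU ψ hB hL hg P hP hcov hinter
  obtain ⟨W, hW, hmW⟩ := hpt
  have h1 := appLE_obs_eq_zero πB m hS L g' hU ψ hB hL hg gσ hgσ hΓ (hP W hW) hmW
  rw [← hj W hW, ← ConcreteCategory.comp_apply, Scheme.Hom.map_appLE] at h1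
  have h2 : j = 0 := hinj ((show m.β0.appTop j = 0 by
    rw [Scheme.Hom.appTop, Scheme.Hom.app_eq_appLE]
    exact h1).trans (map_zero _).symm)
  rw [← hj V hV, h2, map_zero]

end Groth.Agent.H12Pic.Cube
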