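import Groth.Agent.H12Pic.Cube.Box
import Groth.Agent.H11Ample.RelPullback

/-!
# Square-zero triples
-/

set_option autoImplicit false
set_option linter.style.haveILetI false
set_option linter.unusedSectionVars false

noncomputable section

universe u

open CategoryTheory CategoryTheory.Limits AlgebraicGeometry TopologicalSpace Opposite

namespace Groth.Agent.H12Pic.Cube

open Groth.Agent.LeadFF

/-- A scheme with a closed subscheme cut out by one element and the subscheme of its annihilator. -/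
structure Triple (B : Scheme.{u}) where
  B' : Scheme.{u}
  B0 : Scheme.{u}
  i' : B' ⟶ B
  i0 : B0 ⟶ B
  ε : Γ(B, ⊤)

variable {B : Scheme.{u}}

/-- The parameter on an open. -/
def Triple.e (τ : Triple B) (V : B.Opens) : Γ(B, V) := B.presheaf.map (homOfLE (le_top : V ≤ ⊤)).op τ.ε

theorem Triple.map_e (τ : Triple B) {V V' : B.Opens} (h : V' ≤ V) :
    B.presheaf.map (homOfLE h).op (τ.e V) = τ.e V' := by
  show B.presheaf.map _ (B.presheaf.map _ τ.ε) = B.presheaf.map _ τ.ε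
  rw [← ConcreteCategory.comp_apply, ← Functor.map_comp]
  rfl

/-- The opens over which the triple is a square-zero extension by functions on the third scheme. -/
structure Good (τ : Triple B) (V : B.Opens) : Prop where
  aff : IsAffineOpen V
  aff' : IsAffineOpen (τ.i' ⁻¹ᵁ V)
  aff0 : IsAffineOpen (τ.i0 ⁻¹ᵁ V)
  surj' : Function.Surjective (τ.i'.appLE V (τ.i' ⁻¹ᵁ V) le_rfl)
  surj0 : Function.Surjective (τ.i0.appLE V (τ.i0 ⁻¹ᵁ V) le_rfl)
  ker' : ∀ a, τ.i'.appLE V (τ.i' ⁻¹ᵁ V) le_rfl a = 0 ↔ ∃ r, τ.e V * r = a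
  ker0 : ∀ a, τ.e V * a = 0 ↔ τ.i0.appLE V (τ.i0 ⁻¹ᵁ V) le_rfl a = 0
  sq : τ.e V * τ.e V = 0

theorem surjective_appLE_congr {B' : Scheme.{u}} (b : B' ⟶ B) {V : B.Opens} {V' : B'.Opens} (h : b ⁻¹ᵁ V = V') :
    Function.Surjective (b.appLE V V' h.ge) ↔ Function.Surjective (b.appLE V (b ⁻¹ᵁ V) le_rfl) := by
  subst h
  rfl

theorem appLE_eq_zero_congr {B' : Scheme.{u}} (b : B' ⟶ B) {V : B.Opens} {V' : B'.Opens} (h : b ⁻¹ᵁ V = V')
    (a : Γ(B, V)) : b.appLE V V' h.ge a = 0 ↔ b.appLE V (b ⁻¹ᵁ V) le_rfl a = 0 := by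
  subst h
  rfl

variable {A : Type u} [CommRing A] {Y : Scheme.{u}} (πY : Y ⟶ Spec (CommRingCat.of A))

theorem bT_preimage_Oc {B B' : Scheme.{u}} (πB : B ⟶ Spec (CommRingCat.of A)) {πB' : B' ⟶ Spec (CommRingCat.of A)}
    (b : B' ⟶ B) (hb : b ≫ πB = πB') (U : Y.Opens) (V : B.Opens) :
    bT πY πB b hb ⁻¹ᵁ Oc πY πB U V = Oc πY πB' U (b ⁻¹ᵁ V) := by
  ext x
  show (bT πY πB b hb ≫ pullback.fst πY πB) x ∈ U ∧ (bT πY πB b hb ≫ pullback.snd πY πB) x ∈ V ↔ _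
  rw [bT_fst, bT_snd]
  rfl

theorem isAffineOpen_Oc {B : Scheme.{u}} (πB : B ⟶ Spec (CommRingCat.of A)) {U : Y.Opens} {V : B.Opens}
    (hU : IsAffineOpen U) (hV : IsAffineOpen V) : IsAffineOpen (Oc πY πB U V) :=
  H11Ample.isAffineOpen_fst_inf_snd πY πB (isAffineOpen_top _) hU le_top hV le_top

theorem Oc_inf {B : Scheme.{u}} (πB : B ⟶ Spec (CommRingCat.of A)) (U U' : Y.Opens) (V : B.Opens) :
    Oc πY πB U V ⊓ Oc πY πB U' V = Oc πY πB (U ⊓ U') V := by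
  ext x
  exact ⟨fun h => ⟨⟨h.1.1, h.2.1⟩, h.1.2⟩, fun h => ⟨⟨h.1.1, h.2⟩, ⟨h.1.2, h.2⟩⟩⟩

variable {S : Scheme.{u}} (πS : S ⟶ Spec (CommRingCat.of A)) (σ : Triple S)

/-- The product of a scheme with a triple. -/
def Triple.prod : Triple (pullback πY πS) where
  B' := pullback πY (σ.i' ≫ πS)
  B0 := pullback πY (σ.i0 ≫ πS)
  i' := bT πY πS σ.i' rfl
  i0 := bT πY πS σ.i0 rfl
  ε := (pullback.snd πY πS).appTop σ.ε

theorem prod_e (U : Y.Opens) (V : S.Opens) : (σ.prod πY πS).e (Oc πY πS U V) = sndS πY πS U V (σ.e V) := by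
  have h : (pullback.snd πY πS).appTop ≫ (pullback πY πS).presheaf.map (homOfLE (le_top : Oc πY πS U V ≤ ⊤)).op =
      S.presheaf.map (homOfLE (le_top : V ≤ ⊤)).op ≫ sndS πY πS U V := by
    rw [sndS, Scheme.Hom.map_appLE]
    rfl
  exact ConcreteCategory.congr_hom h σ.ε

theorem good_prod {U : Y.Opens} {V : S.Opens} (hU : IsAffineOpen U) (hf : FlatOn πY U) (hV : Good σ V) :
    Good (σ.prod πY πS) (Oc πY πS U V) := by
  have h' : (σ.prod πY πS).i' ⁻¹ᵁ Oc πY πS U V = Oc πY (σ.i' ≫ πS) U (σ.i' ⁻¹ᵁ V) :=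
    bT_preimage_Oc πY πS σ.i' rfl U V
  have h0 : (σ.prod πY πS).i0 ⁻¹ᵁ Oc πY πS U V = Oc πY (σ.i0 ≫ πS) U (σ.i0 ⁻¹ᵁ V) :=
    bT_preimage_Oc πY πS σ.i0 rfl U V
  refine ⟨isAffineOpen_Oc πY πS hU hV.aff, h' ▸ isAffineOpen_Oc πY _ hU hV.aff',
    h0 ▸ isAffineOpen_Oc πY _ hU hV.aff0, ?_, ?_, fun a => ?_, fun a => ?_, ?_⟩
  · exact (surjective_appLE_congr _ h').1 (bS_surjective πY πS σ.i' rfl hU hV.aff hV.aff' hV.surj')
  · exact (surjective_appLE_congr _ h0).1 (bS_surjective πY πS σ.i0 rfl hU hV.aff hV.aff0 hV.surj0)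
  · rw [prod_e]
    exact (appLE_eq_zero_congr _ h' a).symm.trans
      (bS_eq_zero_iff πY πS σ.i' rfl hU hV.aff hV.aff' hf (σ.e V) hV.ker' a)
  · rw [prod_e]
    exact (sndS_mul_eq_zero_iff πY πS σ.i0 rfl hU hV.aff hV.aff0 hf (σ.e V) hV.ker0 a).trans
      (appLE_eq_zero_congr _ h0 a)
  · rw [prod_e, ← map_mul, hV.sq, map_zero]

end Groth.Agent.H12Pic.Cube
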